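import Cfsg.Agent.RealGraph.Tools
import Cfsg.Agent.Solvable.Fitting
import Mathlib.GroupTheory.GroupAction.Hom

/-!
Groups acting on a group of exponent two so that the nonzero vectors behave like the cosets of the
centralizers of real elements with odd class size.
-/

set_option autoImplicit false
set_option linter.unusedSectionVars false
set_option linter.style.haveILetI false

namespace CfsgLib.RealGraph

open Subgroup
open scoped Pointwise

universe u v

/-- The axioms on an action. -/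
structure RealAct (G : Type u) (D : Type v) [Group G] [Group D] [MulDistribMulAction G D] :
    Prop where
  sq : ∀ v : D, v * v = 1
  faithful : ∀ g : G, (∀ v : D, g • v = v) → g = 1
  sylow : ∀ v : D, v ≠ 1 → ∃ T : Sylow 2 G, (∀ t ∈ T, t • v = v) ∧
    ∀ g : G, g • v = v → g ∈ normalizer ((T : Subgroup G) : Set G)
  free : ∀ x : G, x ≠ 1 → Odd (orderOf x) → IsConj x x⁻¹ → ∀ v : D, x • v = v → v = 1
  trans : ∀ x : G, x ≠ 1 → Odd (orderOf x) → IsConj x x⁻¹ →
    ∀ (v : D) (g : G), ∃ c : G, Commute c x ∧ c • v = g • v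

variable {G : Type u} [Group G] [Finite G] {D : Type v} [Group D] [Finite D] [Nontrivial D]
  [MulDistribMulAction G D]

variable (D) in
/-- The vectors fixed by an element. -/
def fix (g : G) : Subgroup D where
  carrier := {v | g • v = v}
  one_mem' := smul_one g
  mul_mem' {a b} (ha : g • a = a) (hb : g • b = b) := by
    show g • (a * b) = a * b
    rw [smul_mul', ha, hb]
  inv_mem' {a} (ha : g • a = a) := by
    show g • a⁻¹ = a⁻¹
    rw [smul_inv', ha]

theorem mem_fix {g : G} {v : D} : v ∈ fix D g ↔ g • v = v := Iff.rfl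

theorem smul_mem_fix {g u : G} {v : D} : g • v ∈ fix D (g * u * g⁻¹) ↔ v ∈ fix D u := by
  rw [mem_fix, mem_fix, ← mul_smul, inv_mul_cancel_right, mul_smul]
  exact smul_left_cancel_iff g

theorem fix_conj (g u : G) : (fix D (g * u * g⁻¹) : Set D) = g • (fix D u : Set D) := by
  ext w
  rw [Set.mem_smul_set_iff_inv_smul_mem, SetLike.mem_coe, SetLike.mem_coe,
    ← smul_mem_fix (g := g) (u := u) (v := g⁻¹ • w), smul_inv_smul]

theorem card_fix_conj (g u : G) : Nat.card (fix D (g * u * g⁻¹)) = Nat.card (fix D u) :=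
  Nat.card_congr ((MulAction.toPerm g).subtypeEquiv fun _ => smul_mem_fix.symm).symm

/-- A common fixed vector spreads to the generated subgroup. -/
theorem fixed_of_closure {S : Set G} {v : D} (h : ∀ s ∈ S, s • v = v) {g : G}
    (hg : g ∈ closure S) : g • v = v :=
  (closure_le (MulAction.stabilizer G v)).2 (fun s hs => h s hs) hg

variable (hA : RealAct G D)
include hA

theorem isPGroup_D : IsPGroup 2 D := fun v => ⟨1, by rw [pow_one, pow_two, hA.sq v]⟩

theorem mul_comm_D (a b : D) : a * b = b * a := by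
  have hinv : ∀ x : D, x⁻¹ = x := fun x => inv_eq_of_mul_eq_one_right (hA.sq x)
  rw [← hinv (a * b), mul_inv_rev, hinv, hinv]

/-- A 2-group fixes a nontrivial vector. -/
theorem exists_fixed {P : Subgroup G} (hP : IsPGroup 2 P) :
    ∃ v : D, v ≠ 1 ∧ ∀ p ∈ P, p • v = v := by
  haveI : Fact (Nat.Prime 2) := ⟨Nat.prime_two⟩
  obtain ⟨n, hn⟩ := (isPGroup_D hA).exists_card_eq
  have h2 : 2 ∣ Nat.card D := by
    rcases n with _ | n
    · have := Finite.one_lt_card_iff_nontrivial.2 (inferInstance : Nontrivial D)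
      rw [hn, pow_zero] at this
      exact absurd this (lt_irrefl _)
    · rw [hn, pow_succ]; exact dvd_mul_left 2 _
  obtain ⟨v, hv, hv1⟩ := hP.exists_fixed_point_of_prime_dvd_card_of_fixed_point D h2
    (a := (1 : D)) (fun p => by rw [Subgroup.smul_def, smul_one])
  exact ⟨v, fun h => hv1 h.symm, fun p hp => hv ⟨p, hp⟩⟩

/-- The Sylow subgroup fixing a vector. -/
noncomputable def syl {v : D} (hv : v ≠ 1) : Sylow 2 G := (hA.sylow v hv).choose

theorem smul_of_mem_syl {v : D} (hv : v ≠ 1) {t : G} (ht : t ∈ syl hA hv) : t • v = v :=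
  (hA.sylow v hv).choose_spec.1 t ht

theorem le_normalizer_syl {v : D} (hv : v ≠ 1) {g : G} (hg : g • v = v) :
    g ∈ normalizer ((syl hA hv : Subgroup G) : Set G) :=
  (hA.sylow v hv).choose_spec.2 g hg

theorem le_syl {v : D} (hv : v ≠ 1) {P : Subgroup G} (hP : IsPGroup 2 P)
    (h : ∀ p ∈ P, p • v = v) : P ≤ syl hA hv := by
  have hn : P ≤ normalizer ((syl hA hv : Subgroup G) : Set G) := fun p hp =>
    le_normalizer_syl hA hv (h p hp)
  exact le_sup_left.trans
    ((syl hA hv).3 (hP.to_sup_of_normal_right' (syl hA hv).2 hn) le_sup_right).le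

theorem mem_syl {v : D} (hv : v ≠ 1) {t : G} {j : ℕ} (hj : orderOf t = 2 ^ j) (h : t • v = v) :
    t ∈ syl hA hv :=
  le_syl hA hv (isPGroup_zpowers hj) (fun p hp => by
    rw [zpowers_eq_closure] at hp
    exact fixed_of_closure (fun s hs => by rwa [Set.mem_singleton_iff.1 hs]) hp) (mem_zpowers t)

theorem invol_mem_syl {v : D} (hv : v ≠ 1) {t : G} (ht : orderOf t = 2) (h : t • v = v) :
    t ∈ syl hA hv :=
  mem_syl hA hv (j := 1) (by rw [ht, pow_one]) h

theorem exists_syl_eq (S : Sylow 2 G) : ∃ (v : D) (hv : v ≠ 1), syl hA hv = S := by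
  obtain ⟨v, hv, hfix⟩ := exists_fixed hA S.2
  exact ⟨v, hv, Sylow.ext (S.3 (syl hA hv).2 (le_syl hA hv S.2 hfix))⟩

theorem smul_ne {v : D} (hv : v ≠ 1) (g : G) : g • v ≠ 1 := by
  rw [ne_eq, ← smul_one g, smul_left_cancel_iff]
  exact hv

theorem mem_syl_smul {v : D} (hv : v ≠ 1) (g : G) {t : G}
    (hgv : g • v ≠ 1) : t ∈ syl hA hgv ↔ g⁻¹ * t * g ∈ syl hA hv := by
  constructor
  · intro ht
    obtain ⟨j, hj⟩ := pow_eq_one_of_isPGroup (syl hA hgv).2 ht
    refine mem_syl hA hv (j := j) ?_ ?_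
    · rw [← orderOf_conjugate g, show g * (g⁻¹ * t * g) * g⁻¹ = t by group, hj]
    · rw [mul_smul, mul_smul, smul_of_mem_syl hA hgv ht, inv_smul_smul]
  · intro ht
    obtain ⟨j, hj⟩ := pow_eq_one_of_isPGroup (syl hA hv).2 ht
    refine mem_syl hA hgv (j := j) ?_ ?_
    · rw [← hj, ← orderOf_conjugate g (g⁻¹ * t * g)]; congr 1; group
    · have := smul_of_mem_syl hA hv ht
      rw [mul_smul, mul_smul, inv_smul_eq_iff] at this
      exact this

theorem pCore_eq_bot : Cfsg.pCore 2 G = ⊥ := by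
  haveI : Fact (Nat.Prime 2) := ⟨Nat.prime_two⟩
  refine (Subgroup.eq_bot_iff_forall _).2 fun g hg => hA.faithful g fun v => ?_
  by_cases hv : v = 1
  · rw [hv, smul_one]
  · exact smul_of_mem_syl hA hv (Fitting.pCore_le_sylow (syl hA hv) hg)

theorem exists_inverted {t : G} (ht : orderOf t = 2) :
    ∃ y : G, y ≠ 1 ∧ Odd (orderOf y) ∧ t * y * t⁻¹ = y⁻¹ :=
  CfsgLib.Invol.exists_inverted_odd t ht (by
    rw [pCore_eq_bot hA, mem_bot]; exact ne_one_of_invol ht)

/-- An involution and the conjugate obtained from an inverted element fix no common vector. -/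
theorem disjoint_fix {t y : G} (hy1 : y ≠ 1) (hy : Odd (orderOf y)) (h : t * y * t⁻¹ = y⁻¹)
    {v : D} (h1 : v ∈ fix D t) (h2 : v ∈ fix D (t * y)) : v = 1 := by
  refine hA.free y hy1 hy (isConj_iff.2 ⟨t, h⟩) v (smul_left_cancel t ?_)
  rw [← mul_smul, mem_fix.1 h2, mem_fix.1 h1]

theorem card_fix_sq {t : G} (ht : orderOf t = 2) :
    Nat.card (fix D t) * Nat.card (fix D t) = Nat.card D := by
  obtain ⟨y, hy1, hy, hty⟩ := exists_inverted hA ht
  obtain ⟨r, -, hr2, hrt⟩ := exists_half hy hty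
  have hconj : r⁻¹ * t * (r⁻¹)⁻¹ = t * y := by
    rw [← hr2, inv_inv]
    calc r⁻¹ * t * r = (t * r * t⁻¹) * t * r := by rw [hrt]
      _ = t * (r * r) := by group
  have hcard : Nat.card (fix D (t * y)) = Nat.card (fix D t) := by rw [← hconj, card_fix_conj]
  refine le_antisymm ?_ ?_
  · conv_lhs => arg 2; rw [← hcard]
    rw [← Nat.card_prod]
    refine Nat.card_le_card_of_injective (fun p => (p.1 : D) * (p.2 : D)) ?_
    rintro ⟨a, b⟩ ⟨a', b'⟩ hab
    simp only at hab
    have hkey : (a' : D)⁻¹ * a = (b' : D) * (b : D)⁻¹ := by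
      rw [inv_mul_eq_iff_eq_mul, ← mul_assoc, eq_mul_inv_iff_mul_eq, hab]
    have h1 : (a' : D)⁻¹ * a ∈ fix D t := mul_mem (inv_mem a'.2) a.2
    have h2 : (a' : D)⁻¹ * a ∈ fix D (t * y) := hkey ▸ mul_mem b'.2 (inv_mem b.2)
    have h3 := disjoint_fix hA hy1 hy hty h1 h2
    refine Prod.ext (Subtype.ext (inv_mul_eq_one.1 h3).symm) (Subtype.ext ?_)
    rw [hkey, mul_inv_eq_one] at h3
    exact h3.symm
  · have hinv : ∀ x : D, x⁻¹ = x := fun x => inv_eq_of_mul_eq_one_right (hA.sq x)
    let f : D →* D :=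
      { toFun := fun v => v * t • v
        map_one' := by rw [smul_one, one_mul]
        map_mul' := fun a b => by
          rw [smul_mul']
          calc a * b * (t • a * t • b) = a * (b * t • a) * t • b := by group
            _ = a * (t • a * b) * t • b := by rw [mul_comm_D hA b]
            _ = a * t • a * (b * t • b) := by group }
    have hk : f.ker ≤ fix D t := fun v hv => by
      rw [MonoidHom.mem_ker] at hv
      rw [mem_fix, ← inv_eq_of_mul_eq_one_right hv, hinv]
    have hr : f.range ≤ fix D t := by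
      rintro _ ⟨v, rfl⟩
      show t • (v * t • v) = v * t • v
      rw [smul_mul', ← mul_smul, mul_self_of_invol ht, one_smul, mul_comm_D hA]
    rw [← f.ker.card_mul_index, index_ker]
    exact Nat.mul_le_mul (Subgroup.card_le_of_le hk) (Subgroup.card_le_of_le hr)

theorem even_card_fix {t : G} (ht : orderOf t = 2) : Even (Nat.card (fix D t)) := by
  haveI : Fact (Nat.Prime 2) := ⟨Nat.prime_two⟩
  obtain ⟨n, hn⟩ := ((isPGroup_D hA).to_subgroup (fix D t)).exists_card_eq
  rcases n with _ | n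
  · have h := card_fix_sq hA ht
    rw [hn, pow_zero, one_mul] at h
    exact absurd h.symm (Finite.one_lt_card_iff_nontrivial.2 inferInstance).ne'
  · rw [hn]; exact even_two.pow_of_ne_zero n.succ_ne_zero

theorem card_fix_eq {s t : G} (hs : orderOf s = 2) (ht : orderOf t = 2) :
    Nat.card (fix D s) = Nat.card (fix D t) :=
  Nat.mul_self_inj.1 ((card_fix_sq hA hs).trans (card_fix_sq hA ht).symm)

theorem fix_eq_of_le {s t : G} (hs : orderOf s = 2) (ht : orderOf t = 2)
    (h : fix D s ≤ fix D t) : fix D s = fix D t :=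
  Subgroup.eq_of_le_of_card_ge h (card_fix_eq hA hs ht).ge

end CfsgLib.RealGraph
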