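import Cfsg.Agent.RealGraph.Basic
import Cfsg.Agent.Signalizer.Wielandt

/-!
A four group acting on a group of odd order which permutes a partition of the nontrivial vectors.
-/

set_option autoImplicit false
set_option linter.unusedSectionVars false
set_option linter.style.haveILetI false

namespace CfsgLib.RealGraph

open Subgroup

universe u v

variable {G : Type u} [Group G] [Finite G]

/-- Counting a set covered by translates of a subset. -/
theorem card_cover {α : Type v} [MulAction G α] {H R : Subgroup G} {F X : Set α} (hFX : F ⊆ X)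
    (hX : ∀ h ∈ H, ∀ x ∈ X, h • x ∈ X) (hcov : ∀ x ∈ X, ∃ h ∈ H, h • x ∈ F) (hR : R ≤ H)
    (hRiff : ∀ h ∈ H, ∀ v ∈ F, h • v ∈ F ↔ h ∈ R) :
    Nat.card H * F.ncard = Nat.card R * X.ncard := by
  rw [← Nat.card_coe_set_eq, ← Nat.card_coe_set_eq, ← Nat.card_prod, ← Nat.card_prod]
  choose! k hk hkF using hcov
  refine Nat.card_congr
    { toFun := fun p => (⟨k ((p.1 : G) • (p.2 : α)) * p.1, ?_⟩,
        ⟨(p.1 : G) • (p.2 : α), hX _ p.1.2 _ (hFX p.2.2)⟩)
      invFun := fun p => (⟨(k (p.2 : α))⁻¹ * p.1, mul_mem (inv_mem (hk _ p.2.2)) (hR p.1.2)⟩,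
        ⟨(p.1 : G)⁻¹ • (k (p.2 : α) • (p.2 : α)), ?_⟩)
      left_inv := ?_
      right_inv := ?_ }
  · have hx := hX _ p.1.2 _ (hFX p.2.2)
    refine (hRiff _ (mul_mem (hk _ hx) p.1.2) _ p.2.2).1 ?_
    rw [mul_smul]
    exact hkF _ hx
  · exact (hRiff _ (inv_mem (hR p.1.2)) _ (hkF _ p.2.2)).2 (inv_mem p.1.2)
  · rintro ⟨⟨h, hh⟩, ⟨f, hf⟩⟩
    ext
    · simp [mul_assoc]
    · simp [mul_smul]
  · rintro ⟨⟨r, hr⟩, ⟨x, hx⟩⟩
    ext
    · simp [← mul_smul, mul_assoc]
    · simp [← mul_smul, mul_assoc]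

theorem centralizer_of_line {E B : Subgroup G} (hE : Cfsg.IsElementaryAbelian 2 E)
    (hB : B ∈ Signalizer.lines 2 E) :
    ∃ e ∈ E, orderOf e = 2 ∧ centralizer (B : Set G) = centralizer ({e} : Set G) := by
  haveI : Fact (Nat.Prime 2) := ⟨Nat.prime_two⟩
  obtain ⟨hBE, hB2⟩ := Signalizer.mem_lines.1 hB
  obtain ⟨e, heB, he1⟩ : ∃ e ∈ B, e ≠ 1 := (bot_or_exists_ne_one _).resolve_left fun h => by
    rw [h, card_bot] at hB2; exact absurd hB2 (by decide)
  have he : orderOf e = 2 := orderOf_eq_prime (hE.2 e (hBE heB)) he1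
  refine ⟨e, hBE heB, he, ?_⟩
  have hBe : zpowers e = B :=
    eq_of_le_of_card_ge (zpowers_le.2 heB) (by rw [hB2, Nat.card_zpowers, he])
  rw [← hBe, zpowers_eq_closure, centralizer_closure]

variable {D : Type v} [Group D] [Finite D] [Nontrivial D] [MulDistribMulAction G D]

theorem false_of_block (hA : RealAct G D) {O E : Subgroup G} (hO : Odd (Nat.card O))
    (hE : Cfsg.IsElementaryAbelian 2 E) (hE2 : Nat.card E = 2 ^ 2)
    (hEO : E ≤ normalizer (O : Set G)) {F : Set D} (hne : F.Nonempty) (hF1 : (1 : D) ∉ F)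
    (hcov : ∀ v : D, v ≠ 1 → ∃ o ∈ O, o • v ∈ F)
    (hpart : ∀ o ∈ O, ∀ v ∈ F, o • v ∈ F → ∀ w ∈ F, o • w ∈ F)
    (hEF : ∀ e ∈ E, ∀ v ∈ F, e • v ∈ F) {e₀ : G} (he₀ : e₀ ∈ E) (he1 : e₀ ≠ 1)
    (hfix : ∀ v ∈ F, e₀ • v = v) : False := by
  classical
  haveI : Fact (Nat.Prime 2) := ⟨Nat.prime_two⟩
  let R : Subgroup G :=
    { carrier := {o | o ∈ O ∧ ∀ w ∈ F, o • w ∈ F ∧ o⁻¹ • w ∈ F}
      one_mem' := ⟨one_mem O, fun w hw => by simp [hw]⟩
      mul_mem' := fun {a b} ha hb => ⟨mul_mem ha.1 hb.1, fun w hw =>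
        ⟨by rw [mul_smul]; exact (ha.2 _ (hb.2 w hw).1).1,
          by rw [mul_inv_rev, mul_smul]; exact (hb.2 _ (ha.2 w hw).2).2⟩⟩
      inv_mem' := fun {a} ha => ⟨inv_mem ha.1, fun w hw =>
        ⟨(ha.2 w hw).2, by rw [inv_inv]; exact (ha.2 w hw).1⟩⟩ }
  have hRO : R ≤ O := fun o ho => ho.1
  have hRiff : ∀ o ∈ O, ∀ v ∈ F, o • v ∈ F ↔ o ∈ R := fun o ho v hv =>
    ⟨fun h => ⟨ho, fun w hw => ⟨hpart o ho v hv h w hw,
      hpart o⁻¹ (inv_mem ho) _ h (by rwa [inv_smul_smul]) w hw⟩⟩, fun h => (h.2 v hv).1⟩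
  have hER : E ≤ normalizer (R : Set G) := by
    have key : ∀ e ∈ E, ∀ o ∈ R, e * o * e⁻¹ ∈ R := fun e he o ho => by
      obtain ⟨w, hw⟩ := hne
      refine (hRiff _ ((mem_normalizer_iff.1 (hEO he) o).1 ho.1) w hw).1 ?_
      rw [mul_smul, mul_smul]
      exact hEF e he _ (ho.2 _ (hEF _ (inv_mem he) w hw)).1
    exact fun e he => mem_normalizer_iff.2 fun o => ⟨key e he o, fun h => by
      have := key e⁻¹ (inv_mem he) _ h
      simpa [mul_assoc] using this⟩
  have he₀o : orderOf e₀ = 2 := orderOf_eq_prime (hE.2 e₀ he₀) he1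
  set q := Nat.card (fix D e₀) with hq
  have hqq : q * q = Nat.card D := card_fix_sq hA he₀o
  have hqe : Even q := even_card_fix hA he₀o
  have hFfin : 0 < F.ncard := (Set.ncard_pos (Set.toFinite F)).2 hne
  -- all vectors
  have hOall := card_cover (G := G) (H := O) (R := R) (F := F) (X := {v : D | v ≠ 1})
    (fun v hv h => hF1 (h ▸ hv)) (fun o _ v hv => smul_ne hA hv o) hcov hRO hRiff
  have hX : ({v : D | v ≠ 1}).ncard = q * q - 1 := by
    rw [hqq, show {v : D | v ≠ 1} = (Set.univ : Set D) \ {1} by ext; simp,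
      Set.ncard_sdiff_singleton_of_mem (Set.mem_univ _), Set.ncard_univ]
  -- fixed vectors of an involution of `E`
  have hOe : ∀ e ∈ E, orderOf e = 2 →
      Nat.card ↥(O ⊓ centralizer ({e} : Set G)) * (F ∩ fix D e).ncard =
        Nat.card ↥(R ⊓ centralizer ({e} : Set G)) * (q - 1) := by
    intro e he heo
    have hX' : ({v : D | v ≠ 1 ∧ e • v = v}).ncard = q - 1 := by
      rw [show {v : D | v ≠ 1 ∧ e • v = v} = (fix D e : Set D) \ {1} by
        ext v; simp [mem_fix, and_comm], Set.ncard_sdiff_singleton_of_mem (one_mem (fix D e)),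
        ← Nat.card_coe_set_eq, SetLike.coe_sort_coe, card_fix_eq hA heo he₀o]
    rw [← hX']
    refine card_cover (fun v hv => ⟨fun h => hF1 (h ▸ hv.1), hv.2⟩)
      (fun o ho v hv => ⟨smul_ne hA hv.1 o, ?_⟩) ?_ (inf_le_inf_right _ hRO) ?_
    · rw [← mul_smul, ← mem_centralizer_singleton_iff.1 ho.2, mul_smul, hv.2]
    · rintro v ⟨hv1, hev⟩
      obtain ⟨o, ho, hov⟩ := hcov v hv1
      have hexe : e * o * e⁻¹ ∈ O := (mem_normalizer_iff.1 (hEO he) o).1 ho
      have hxR : e * o * e⁻¹ * o⁻¹ ∈ R := by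
        refine (hRiff _ (mul_mem hexe (inv_mem ho)) (o • v) hov).1 ?_
        rw [← mul_smul, inv_mul_cancel_right, mul_smul, mul_smul,
          (inv_smul_eq_iff.2 hev.symm : e⁻¹ • v = v)]
        exact hEF e he _ hov
      have hinv : e * (e * o * e⁻¹ * o⁻¹) * e⁻¹ = (e * o * e⁻¹ * o⁻¹)⁻¹ := by
        rw [inv_of_invol heo]
        simp only [mul_inv_rev, inv_inv, inv_of_invol heo, ← mul_assoc, mul_self_of_invol heo,
          one_mul]
      obtain ⟨r, hr, hr2, hre⟩ := exists_half (odd_orderOf_of_mem hO (hRO hxR)) hinv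
      have hrR : r ∈ R := (zpowers_le.2 hxR) hr
      refine ⟨r * o, ⟨mul_mem (hRO hrR) ho, mem_centralizer_singleton_iff.2 ?_⟩, ?_, ?_⟩
      · calc r * o * e = r * (e * o * e⁻¹ * o⁻¹)⁻¹ * e * o := by group
          _ = r⁻¹ * e * o := by rw [← hr2]; group
          _ = e * r * e⁻¹ * e * o := by rw [hre]
          _ = e * (r * o) := by group
      · rw [mul_smul]; exact (hrR.2 _ hov).1
      · show e • ((r * o) • v) = (r * o) • v
        have hc : e * (r * o) = r * o * e := by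
          calc e * (r * o) = e * r * e⁻¹ * e * o := by group
            _ = r⁻¹ * e * o := by rw [hre]
            _ = r * (e * o * e⁻¹ * o⁻¹)⁻¹ * e * o := by rw [← hr2]; group
            _ = r * o * e := by group
        rw [← mul_smul, hc, mul_smul, hev]
    · rintro o ⟨ho, hoc⟩ v ⟨hv, hev⟩
      constructor
      · exact fun h => ⟨(hRiff o ho v hv).1 h.1, hoc⟩
      · refine fun h => ⟨(hRiff o ho v hv).2 h.1, ?_⟩
        show e • o • v = o • v
        rw [← mul_smul, ← mem_centralizer_singleton_iff.1 hoc, mul_smul, mem_fix.1 hev]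
  -- the four group formula
  obtain ⟨N, hN⟩ := card_dvd_of_le hRO
  obtain ⟨r, hr⟩ := card_dvd_of_le (inf_le_inf_right (centralizer (E : Set G)) hRO)
  have hkB : ∀ B ∈ Signalizer.lines 2 E, ∃ k : ℕ, k ∣ q - 1 ∧
      Nat.card ↥(O ⊓ centralizer (B : Set G)) = Nat.card ↥(R ⊓ centralizer (B : Set G)) * k := by
    intro B hB
    obtain ⟨e, he, heo, hBe⟩ := centralizer_of_line hE hB
    obtain ⟨k, hk⟩ := card_dvd_of_le (inf_le_inf_right (centralizer ({e} : Set G)) hRO)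
    refine ⟨k, ⟨(F ∩ fix D e).ncard, ?_⟩, by rw [hBe, hk]⟩
    have h := hOe e he heo
    rw [hk, mul_assoc] at h
    exact (Nat.eq_of_mul_eq_mul_left Nat.card_pos h).symm
  choose! k hk hkc using hkB
  have hodd2 : ∀ H : Subgroup G, Odd (Nat.card H) → ¬ 2 ∣ Nat.card H := fun H h =>
    fun h2 => (Nat.not_even_iff_odd.2 h) (even_iff_two_dvd.2 h2)
  have hWO := Signalizer.wielandt hE hE2 (hodd2 O hO) hEO
  have hWR := Signalizer.wielandt hE hE2 (hodd2 R (hO.of_dvd_nat (card_dvd_of_le hRO))) hER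
  rw [Finset.prod_congr rfl hkc, Finset.prod_mul_distrib, hWR, hN, hr] at hWO
  have hNk : N ∣ ∏ B ∈ Signalizer.lines 2 E, k B := by
    refine Dvd.intro (r ^ ((Signalizer.lines 2 E).card - 1)) ?_
    apply Nat.eq_of_mul_eq_mul_left (Nat.mul_pos (Nat.card_pos (α := R))
      (pow_pos (Nat.card_pos (α := ↥(R ⊓ centralizer (E : Set G))))
        ((Signalizer.lines 2 E).card - 1)))
    rw [hWO, mul_pow]; ring
  have hNq : N ∣ (q - 1) ^ (Signalizer.lines 2 E).card :=
    hNk.trans ((Finset.prod_dvd_prod_of_dvd _ (fun _ => q - 1) fun B hB => hk B hB).trans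
      (dvd_of_eq (Finset.prod_const _)))
  -- the involution fixing a whole part
  have h0 := hOe e₀ he₀ he₀o
  have hsub : F ⊆ (fix D e₀ : Set D) := hfix
  rw [Set.inter_eq_left.2 hsub] at h0
  obtain ⟨k₀, hk₀⟩ := card_dvd_of_le (inf_le_inf_right (centralizer ({e₀} : Set G)) hRO)
  rw [hk₀, mul_assoc] at h0
  have h0' := Nat.eq_of_mul_eq_mul_left Nat.card_pos h0
  rw [hN, mul_assoc, hX] at hOall
  have hall := Nat.eq_of_mul_eq_mul_left Nat.card_pos hOall
  have hq1 : 1 ≤ q := Nat.card_pos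
  have hNk0 : N = k₀ * (q + 1) := by
    apply Nat.eq_of_mul_eq_mul_right hFfin
    rw [hall, mul_right_comm, h0', mul_comm, show q * q - 1 = q * q - 1 * 1 by rw [mul_one]]
    exact (Nat.mul_self_sub_mul_self_eq q 1).trans (mul_comm _ _)
  have hdvd : q + 1 ∣ (q - 1) ^ (Signalizer.lines 2 E).card :=
    (hNk0 ▸ dvd_mul_left (q + 1) k₀ : q + 1 ∣ N).trans hNq
  have hcop : Nat.Coprime (q + 1) (q - 1) := by
    obtain ⟨m, hm⟩ := hqe
    refine Nat.coprime_of_dvd' fun p hp h1 h2 => ?_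
    have h3 : p ∣ 2 := by
      have := Nat.dvd_sub h1 h2
      rwa [show q + 1 - (q - 1) = 2 by omega] at this
    rw [(Nat.prime_dvd_prime_iff_eq hp Nat.prime_two).1 h3] at h1
    omega
  have := Nat.eq_one_of_dvd_coprimes (hcop.pow_right _) dvd_rfl hdvd
  omega

end CfsgLib.RealGraph
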