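import Cfsg.Agent.RealGraph.Tools

/-!
Lifting real elements of odd order through epimorphisms.
-/

set_option autoImplicit false
set_option linter.unusedSectionVars false
set_option linter.style.haveILetI false

namespace CfsgLib.RealGraph

open Subgroup

universe u

variable {G H : Type u} [Group G] [Finite G] [Group H] [Finite H]

/-- Every real element of odd order is the image of one. -/
def LiftsReal (f : G →* H) : Prop :=
  ∀ r : H, Odd (orderOf r) → IsConj r r⁻¹ → ∃ x : G, f x = r ∧ Odd (orderOf x) ∧ IsConj x x⁻¹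

theorem LiftsReal.comp {K : Type u} [Group K] [Finite K] {f : G →* H} {g : H →* K}
    (hg : LiftsReal g) (hf : LiftsReal f) : LiftsReal (g.comp f) := by
  intro r hr hreal
  obtain ⟨y, rfl, hy, hyr⟩ := hg r hr hreal
  obtain ⟨x, rfl, hx, hxr⟩ := hf y hy hyr
  exact ⟨x, rfl, hx, hxr⟩

/-- A real element has a 2-element inverting it. -/
theorem exists_two_inverter {x : G} (hx : IsConj x x⁻¹) :
    ∃ t : G, (∃ j : ℕ, orderOf t = 2 ^ j) ∧ t * x * t⁻¹ = x⁻¹ :=
  (Cfsg.Agent.S3863.result x hx).1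

/-- Lifting an inverted element through a kernel of odd order, keeping the inverting 2-element. -/
theorem exists_lift_inverted (f : G →* H) (hker : Odd (Nat.card f.ker)) {r : H}
    (hr : r ∈ f.range) (hro : Odd (orderOf r)) {t : G} {j : ℕ} (ht : orderOf t = 2 ^ j)
    (hinv : f t * r * (f t)⁻¹ = r⁻¹) :
    ∃ x : G, f x = r ∧ Odd (orderOf x) ∧ t * x * t⁻¹ = x⁻¹ := by
  haveI : Fact (Nat.Prime 2) := ⟨Nat.prime_two⟩
  obtain ⟨g, rfl⟩ := hr
  have hinv' : (f t)⁻¹ * f g * f t = (f g)⁻¹ := by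
    calc (f t)⁻¹ * f g * f t = (f t)⁻¹ * (f t * f g * (f t)⁻¹)⁻¹ * f t := by rw [hinv, inv_inv]
      _ = _ := by group
  let S := {y : G // f y = f g}
  have hcardS : Nat.card S = Nat.card f.ker := Nat.card_congr
    { toFun := fun y => ⟨g⁻¹ * y.1, by rw [MonoidHom.mem_ker, map_mul, map_inv, y.2, inv_mul_cancel]⟩
      invFun := fun k => ⟨g * k.1, by rw [map_mul, MonoidHom.mem_ker.1 k.2, mul_one]⟩
      left_inv := fun y => by ext; simp
      right_inv := fun k => by ext; simp }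
  let φ : Equiv.Perm S :=
    { toFun := fun y => ⟨(t * y.1 * t⁻¹)⁻¹, by
        rw [map_inv, map_mul, map_mul, map_inv, y.2, hinv, inv_inv]⟩
      invFun := fun y => ⟨(t⁻¹ * y.1 * t)⁻¹, by
        rw [map_inv, map_mul, map_mul, map_inv, y.2, hinv', inv_inv]⟩
      left_inv := fun y => Subtype.ext (by simp [mul_assoc])
      right_inv := fun y => Subtype.ext (by simp [mul_assoc]) }
  have hpow : ∀ (n : ℕ) (y : S), ((φ ^ (2 * n)) y : S).1 = t ^ (2 * n) * y.1 * (t ^ (2 * n))⁻¹ := by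
    intro n
    induction n with
    | zero => intro y; simp
    | succ n ih =>
      intro y
      rw [show 2 * (n + 1) = 2 * n + 1 + 1 by ring, pow_succ' φ, pow_succ' φ, Equiv.Perm.mul_apply,
        Equiv.Perm.mul_apply]
      show (t * ((t * ((φ ^ (2 * n)) y).1 * t⁻¹)⁻¹) * t⁻¹)⁻¹ = _
      rw [ih, pow_succ', pow_succ']
      group
  have hφ : φ ^ (2 ^ (j + 1)) = 1 := by
    refine Equiv.ext fun y => Subtype.ext ?_
    rw [pow_succ', hpow, pow_mul t, ← pow_mul, mul_comm, pow_mul, ← ht, pow_orderOf_eq_one,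
      one_pow, one_mul, inv_one, mul_one]
    rfl
  have hP : IsPGroup 2 (zpowers φ) := by
    obtain ⟨i, -, hi⟩ := (Nat.dvd_prime_pow Nat.prime_two).1 (orderOf_dvd_of_pow_eq_one hφ)
    exact IsPGroup.of_card (n := i) (by rw [Nat.card_zpowers, hi])
  have hmod := hP.card_modEq_card_fixedPoints S
  obtain ⟨y, hy⟩ : (MulAction.fixedPoints (zpowers φ) S).Nonempty := by
    rw [Set.nonempty_iff_ne_empty]
    intro h0
    rw [h0, hcardS, Nat.card_coe_set_eq, Set.ncard_empty, Nat.modEq_zero_iff_dvd,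
      ← even_iff_two_dvd] at hmod
    exact (Nat.not_even_iff_odd.2 hker) hmod
  refine ⟨y.1, y.2, ?_, ?_⟩
  · refine (hro.mul hker).of_dvd_nat (orderOf_dvd_of_pow_eq_one ?_)
    rw [pow_mul]
    have hmem : y.1 ^ orderOf (f g) ∈ f.ker := by
      rw [MonoidHom.mem_ker, map_pow, y.2, pow_orderOf_eq_one]
    exact (SubmonoidClass.coe_pow (⟨_, hmem⟩ : f.ker) _).symm.trans
      (congrArg Subtype.val pow_card_eq_one')
  · have h := congrArg Subtype.val (hy ⟨φ, mem_zpowers φ⟩)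
    change (t * y.1 * t⁻¹)⁻¹ = y.1 at h
    exact inv_eq_iff_eq_inv.1 h

theorem liftsReal_of_odd_ker (f : G →* H) (hf : Function.Surjective f)
    (hker : Odd (Nat.card f.ker)) : LiftsReal f := by
  intro r hro hreal
  obtain ⟨tb, ⟨k, hk⟩, htb⟩ := exists_two_inverter hreal
  obtain ⟨g, rfl⟩ := hf tb
  obtain ⟨a, m, hm, ham⟩ :=
    Nat.exists_eq_pow_mul_and_not_dvd (orderOf_pos g).ne' 2 (by decide)
  have hmo : Odd m := by rw [← Nat.not_even_iff_odd, even_iff_two_dvd]; exact hm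
  have ht : orderOf (g ^ m) = 2 ^ a := by
    rw [orderOf_pow' g hmo.pos.ne', ham, Nat.gcd_eq_right (dvd_mul_left m _),
      Nat.mul_div_cancel _ hmo.pos]
  obtain ⟨l, hl⟩ := hmo
  have hinv : f (g ^ m) * r * (f (g ^ m))⁻¹ = r⁻¹ := by
    rw [hl, map_pow]
    clear hl ht
    induction l with
    | zero => simpa using htb
    | succ l ih =>
      rw [show 2 * (l + 1) + 1 = 2 * l + 1 + 1 + 1 by ring, pow_succ', pow_succ']
      calc f g * (f g * f g ^ (2 * l + 1)) * r * (f g * (f g * f g ^ (2 * l + 1)))⁻¹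
          = f g * (f g * (f g ^ (2 * l + 1) * r * (f g ^ (2 * l + 1))⁻¹) * (f g)⁻¹) * (f g)⁻¹ := by
            group
        _ = f g * (f g * r * (f g)⁻¹)⁻¹ * (f g)⁻¹ := by rw [ih]; group
        _ = r⁻¹ := by rw [htb, inv_inv, htb]
  obtain ⟨x, hx, hxo, hxi⟩ := exists_lift_inverted f hker (hf r) hro ht hinv
  exact ⟨x, hx, hxo, isConj_iff.2 ⟨_, hxi⟩⟩

/-- Modulo a normal 2-subgroup, elements of odd order are conjugate. -/
theorem exists_conj_of_two_ker (f : G →* H) (hker : IsPGroup 2 f.ker) {a b : G}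
    (ha : Odd (orderOf a)) (hb : Odd (orderOf b)) (hab : f a = f b) :
    ∃ n ∈ f.ker, b = n * a * n⁻¹ := by
  classical
  haveI : Fact (Nat.Prime 2) := ⟨Nat.prime_two⟩
  obtain ⟨k, hk⟩ := IsPGroup.iff_card.1 hker
  have hcop : Nat.Coprime (orderOf a) (2 ^ k) := ((Nat.coprime_two_right).2 ha).pow_right k
  obtain ⟨e, he1, he2⟩ := Nat.chineseRemainder hcop 1 0
  set C := (centralizer ({a} : Set G)).subgroupOf f.ker with hC
  have hC' : ∀ u : C, Commute a ((u : f.ker) : G) := fun u =>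
    (mem_centralizer_singleton_iff.1 (mem_subgroupOf.1 u.2)).symm
  have hpe : ∀ u : C, (a * ((u : f.ker) : G)) ^ e = a := by
    intro u
    rw [(hC' u).mul_pow, pow_eq_pow_mod e (pow_orderOf_eq_one a) |>.trans (by rw [he1])]
    have hu : ((u : f.ker) : G) ^ e = 1 := by
      obtain ⟨d, hd⟩ : 2 ^ k ∣ e := (Nat.modEq_zero_iff_dvd).1 he2
      rw [hd, pow_mul, ← hk, ← SubmonoidClass.coe_pow, pow_card_eq_one', OneMemClass.coe_one,
        one_pow]
    rw [hu, mul_one, ← pow_eq_pow_mod 1 (pow_orderOf_eq_one a), pow_one]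
  let Ψ : (f.ker ⧸ C) × C → f.ker := fun p => ⟨a⁻¹ * ((p.1.out : G) * (a * ((p.2 : f.ker) : G)) *
    (p.1.out : G)⁻¹), by
      rw [MonoidHom.mem_ker, map_mul, map_mul, map_mul, map_mul, map_inv, map_inv,
        MonoidHom.mem_ker.1 p.1.out.2, MonoidHom.mem_ker.1 (p.2 : f.ker).2]
      group⟩
  have hinj : Function.Injective Ψ := by
    rintro ⟨q, u⟩ ⟨q', u'⟩ h
    have h1 := mul_left_cancel (congrArg Subtype.val h)
    have h2 := congrArg (· ^ e) h1
    simp only at h2 h1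
    rw [conj_pow, conj_pow, hpe, hpe] at h2
    have hq : q = q' := by
      rw [← q.out_eq, ← q'.out_eq]
      refine QuotientGroup.eq.2 (mem_subgroupOf.2 (mem_centralizer_singleton_iff.2 ?_))
      push_cast
      calc (q.out : G)⁻¹ * q'.out * a
          = (q.out : G)⁻¹ * ((q'.out : G) * a * (q'.out : G)⁻¹) * q'.out := by group
        _ = a * ((q.out : G)⁻¹ * q'.out) := by rw [← h2]; group
    subst hq
    exact Prod.ext rfl (Subtype.ext (Subtype.ext
      (mul_left_cancel (mul_left_cancel (mul_right_cancel h1)))))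
  have hbij : Function.Bijective Ψ := (Nat.bijective_iff_injective_and_card Ψ).2
    ⟨hinj, by rw [Nat.card_prod, ← index_eq_card, mul_comm, card_mul_index]⟩
  obtain ⟨⟨q, u⟩, hqu⟩ := hbij.2 ⟨a⁻¹ * b, by
    rw [MonoidHom.mem_ker, map_mul, map_inv, hab, inv_mul_cancel]⟩
  have hb' : b = (q.out : G) * (a * ((u : f.ker) : G)) * (q.out : G)⁻¹ :=
    (mul_left_cancel (congrArg Subtype.val hqu)).symm
  refine ⟨q.out, q.out.2, ?_⟩
  have huo : Odd (orderOf (a * ((u : f.ker) : G))) := by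
    rw [← orderOf_conjugate (q.out : G), ← hb']; exact hb
  have hu1 : ((u : f.ker) : G) = 1 := by
    obtain ⟨i, hi⟩ := pow_eq_one_of_isPGroup hker (u : f.ker).2
    have hd : orderOf ((u : f.ker) : G) ∣ orderOf a * orderOf (a * ((u : f.ker) : G)) := by
      have hc : Commute a⁻¹ (a * ((u : f.ker) : G)) :=
        ((Commute.refl a).mul_right (hC' u)).inv_left
      have h := hc.orderOf_mul_dvd_mul_orderOf
      rwa [inv_mul_cancel_left, orderOf_inv] at h
    exact orderOf_eq_one_iff.1 (Nat.eq_one_of_dvd_coprimes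
      (((Nat.coprime_two_left).2 (ha.mul huo)).pow_left i) (dvd_of_eq hi) hd)
  rw [hb', hu1, mul_one]

theorem liftsReal_of_two_ker (f : G →* H) (hf : Function.Surjective f)
    (hker : IsPGroup 2 f.ker) : LiftsReal f := by
  intro r hro hreal
  obtain ⟨c, hc⟩ := isConj_iff.1 hreal
  obtain ⟨g, rfl⟩ := hf r
  obtain ⟨t, rfl⟩ := hf c
  haveI : Fact (Nat.Prime 2) := ⟨Nat.prime_two⟩
  obtain ⟨k, hk⟩ := IsPGroup.iff_card.1 hker
  obtain ⟨e, he1, he2⟩ :=
    Nat.chineseRemainder (((Nat.coprime_two_right).2 hro).pow_right k) 1 0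
  have hx : f (g ^ e) = f g := by
    rw [map_pow, pow_eq_pow_mod e (pow_orderOf_eq_one (f g)), he1,
      ← pow_eq_pow_mod 1 (pow_orderOf_eq_one (f g)), pow_one]
  have hxo : Odd (orderOf (g ^ e)) := by
    refine hro.of_dvd_nat (orderOf_dvd_of_pow_eq_one ?_)
    obtain ⟨d, hd⟩ : 2 ^ k ∣ e := (Nat.modEq_zero_iff_dvd).1 he2
    have hmem : g ^ orderOf (f g) ∈ f.ker := by
      rw [MonoidHom.mem_ker, map_pow, pow_orderOf_eq_one]
    rw [← pow_mul, mul_comm, pow_mul, hd, pow_mul, ← hk,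
      show (g ^ orderOf (f g)) ^ Nat.card f.ker = 1 from
        (SubmonoidClass.coe_pow (⟨_, hmem⟩ : f.ker) _).symm.trans
          (congrArg Subtype.val pow_card_eq_one'), one_pow]
  obtain ⟨n, -, hn⟩ := exists_conj_of_two_ker f hker (a := (g ^ e)⁻¹) (b := t * g ^ e * t⁻¹)
    (by rwa [orderOf_inv]) (by rwa [orderOf_conjugate])
    (by rw [map_inv, map_mul, map_mul, map_inv, hx, hc])
  refine ⟨g ^ e, hx, hxo, isConj_iff.2 ⟨n⁻¹ * t, ?_⟩⟩
  calc n⁻¹ * t * g ^ e * (n⁻¹ * t)⁻¹ = n⁻¹ * (t * g ^ e * t⁻¹) * n := by group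
    _ = (g ^ e)⁻¹ := by rw [hn]; group

end CfsgLib.RealGraph
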