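import Cfsg.Agent.RealGraph.StepA
import Cfsg.Agent.RealGraph.Lift
import Cfsg.Agent.ZJ.TwoClosed
import Cfsg.Agent.S0225

/-!
A group satisfying the axioms `RealAct` is solvable.
-/

set_option autoImplicit false
set_option linter.unusedSectionVars false
set_option linter.style.haveILetI false

namespace CfsgLib.RealGraph

open Subgroup
open scoped Pointwise

universe u v

theorem odd_orderOf_of_pow_prime {G : Type u} [Group G] [Finite G] {q k : ℕ} (hq : q.Prime)
    (hq2 : q ≠ 2) {x : G} (h : x ^ q ^ k = 1) : Odd (orderOf x) :=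
  ((hq.odd_of_ne_two hq2).pow).of_dvd_nat (orderOf_dvd_of_pow_eq_one h)

/-- A group without real elements of odd order is 2-closed. -/
theorem two_closed_of_no_real {G : Type u} [Group G] [Finite G]
    (h : ∀ x : G, Odd (orderOf x) → IsConj x x⁻¹ → x = 1) (P : Sylow 2 G) :
    (P : Subgroup G).Normal :=
  ZJ.two_closed_of_not_inverts (fun q hq hq2 _ ⟨g, x, hx1, ⟨_, hk⟩, hgx⟩ =>
    hx1 (h x (odd_orderOf_of_pow_prime hq hq2 hk) (isConj_iff.2 ⟨g, hgx⟩))) P

variable {G : Type u} [Group G] [Finite G] {D : Type v} [Group D] [Finite D] [Nontrivial D]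
  [MulDistribMulAction G D]

theorem smul_fix_eq (g u : G) : g • fix D u = fix D (g * u * g⁻¹) :=
  SetLike.coe_injective (by rw [Subgroup.coe_pointwise_smul, fix_conj])

variable (hA : RealAct G D)
include hA

theorem exists_mem_fix_ne {u : G} (hu : orderOf u = 2) : ∃ v : D, v ≠ 1 ∧ u • v = v := by
  obtain ⟨v, hv, hfix⟩ := exists_fixed hA (isPGroup_zpowers (j := 1) (by rw [hu, pow_one]))
  exact ⟨v, hv, hfix u (mem_zpowers u)⟩

/-- The fixed points of a central involution of a Sylow subgroup are those of all its involutions. -/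
theorem fix_eq_central {v₀ : D} (hv₀ : v₀ ≠ 1) {z s : G} (hz : orderOf z = 2)
    (hzT : z ∈ syl hA hv₀) (hzc : ∀ t ∈ syl hA hv₀, t * z = z * t) (hs : orderOf s = 2)
    (hsT : s ∈ syl hA hv₀) : fix D z = fix D s := by
  haveI : Fact (Nat.Prime 2) := ⟨Nat.prime_two⟩
  obtain ⟨y, hy1, hyo, hzy⟩ := exists_inverted hA hz
  have hy : IsSR y := ⟨hy1, hyo, z, hz, hzy⟩
  have hyodd := odd_centralizer hA hy
  have hzv₀ : z • v₀ = v₀ := smul_of_mem_syl hA hv₀ hzT
  refine fix_eq_of_le hA hz hs fun v hzv => ?_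
  by_cases hv : v = 1
  · rw [hv]; exact one_mem _
  have hle : (syl hA hv : Subgroup G) ≤ centralizer ({z} : Set G) := by
    obtain ⟨g, hg⟩ := MulAction.exists_smul_eq G (syl hA hv₀) (syl hA hv)
    obtain ⟨c, hcy, hcv⟩ := hA.trans y hy.1 hy.2.1 hy.isConj v₀ g
    have hne := smul_ne hA hv₀ g
    have hsyl : syl hA hne = syl hA hv := by
      refine syl_eq hA hne _ fun t ht => ?_
      rw [← hg] at ht
      have ht' : g⁻¹ * t * g ∈ syl hA hv₀ := by
        change t ∈ ((g • syl hA hv₀ : Sylow 2 G) : Subgroup G) at ht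
        rw [Sylow.coe_subgroup_smul, Subgroup.mem_pointwise_smul_iff_inv_smul_mem] at ht
        rw [← SetLike.mem_coe] at *
        simpa [MulAut.smul_def, mul_assoc] using ht
      have := smul_of_mem_syl hA hv₀ ht'
      rwa [mul_smul, mul_smul, inv_smul_eq_iff] at this
    have hzcv : z • c • v₀ = c • v₀ := by
      rw [hcv]
      exact smul_of_mem_syl hA hne (hsyl ▸ invol_mem_syl hA hv hz hzv)
    set x' := c⁻¹ * (z * c * z⁻¹) with hx'
    have hzCy : z * c * z⁻¹ ∈ centralizer ({y} : Set G) := by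
      have e1 := commute_conjugate z hcy
      rw [hzy] at e1
      have e2 := e1.inv_right
      rw [inv_inv] at e2
      exact mem_centralizer_singleton_iff.2 e2.eq
    have hcC : c ∈ centralizer ({y} : Set G) := mem_centralizer_singleton_iff.2 hcy.eq
    have hx'v : x' • v₀ = v₀ := by
      rw [hx', mul_smul, mul_smul, mul_smul, inv_smul_eq_iff.2 hzv₀.symm, hzcv, inv_smul_smul]
    have hx'i : z * x' * z⁻¹ = x'⁻¹ := by
      rw [hx', inv_of_invol hz]
      calc z * (c⁻¹ * (z * c * z)) * z = z * c⁻¹ * z * c * (z * z) := by group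
        _ = (c⁻¹ * (z * c * z))⁻¹ := by
          rw [mul_self_of_invol hz]
          simp [mul_assoc, inv_of_invol hz]
    obtain ⟨r, hr, hr2, hzr⟩ :=
      exists_half (odd_orderOf_of_mem hyodd (mul_mem (inv_mem hcC) hzCy)) hx'i
    have hrv : r • v₀ = v₀ := by
      obtain ⟨i, rfl⟩ := mem_zpowers_iff.1 hr
      exact fixed_of_closure (fun a ha => by rw [Set.mem_singleton_iff.1 ha]; exact hx'v)
        ((zpowers_eq_closure x') ▸ zpow_mem (mem_zpowers x') i)
    have hcr : z * (c * r) = c * r * z := by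
      calc z * (c * r) = (z * c * z⁻¹) * (z * r * z⁻¹) * z := by group
        _ = c * (r * r) * r⁻¹ * z := by rw [hzr, hr2]; group
        _ = c * r * z := by group
    intro t ht
    rw [← hsyl] at ht
    have hw : (c * r) • v₀ ≠ 1 := smul_ne hA hv₀ _
    have key : ∀ (u : D) (hu : u ≠ 1), u = g • v₀ → t ∈ syl hA hu := by
      rintro u hu rfl; exact ht
    have ht2 := (mem_syl_smul hA hv₀ (c * r) hw).1 (key _ hw (by rw [mul_smul, hrv, hcv]))
    rw [mem_centralizer_singleton_iff]
    calc t * z = (c * r) * (((c * r)⁻¹ * t * (c * r)) * z) * (c * r)⁻¹ := by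
          simp only [mul_assoc]
          rw [show z * (c * r)⁻¹ = (c * r)⁻¹ * z by
            rw [mul_inv_eq_iff_eq_mul, mul_assoc, hcr, inv_mul_cancel_left]]
          simp [mul_assoc]
      _ = (c * r) * z * ((c * r)⁻¹ * t * (c * r)) * (c * r)⁻¹ := by rw [hzc _ ht2]; group
      _ = z * t := by rw [← hcr]; group
  set C := centralizer ({z} : Set G) with hC
  have hsC : s ∈ C := mem_centralizer_singleton_iff.2 (hzc s hsT)
  have hsO : (⟨s, hsC⟩ : C) ∈ Cfsg.pCore 2 C := by
    by_contra hout
    obtain ⟨⟨g, hgC⟩, hg1, hgo, hgi⟩ :=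
      Invol.exists_inverted_odd (⟨s, hsC⟩ : C) (by rw [← Subgroup.orderOf_coe]; exact hs) hout
    rw [← Subgroup.orderOf_coe] at hgo
    have hgSR : IsSR g :=
      ⟨fun h => hg1 (Subtype.ext h), hgo, s, hs, by simpa using congrArg Subtype.val hgi⟩
    have h2 := Subgroup.orderOf_dvd_natCard _ (mem_centralizer_singleton_iff.2
      (mem_centralizer_singleton_iff.1 hgC).symm : z ∈ centralizer ({g} : Set G))
    rw [hz] at h2
    exact (Nat.not_even_iff_odd.2 (odd_centralizer hA hgSR)) (even_iff_two_dvd.2 h2)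
  have := Fitting.pCore_le_sylow ((syl hA hv).subtype hle) hsO
  exact smul_of_mem_syl hA hv (mem_subgroupOf.1 this)

/-- Involutions with a common fixed vector have the same fixed vectors. -/
theorem fix_eq_of_common {s t : G} (hs : orderOf s = 2) (ht : orderOf t = 2) {v : D} (hv : v ≠ 1)
    (h1 : s • v = v) (h2 : t • v = v) : fix D s = fix D t := by
  haveI : Fact (Nat.Prime 2) := ⟨Nat.prime_two⟩
  have hsT := invol_mem_syl hA hv hs h1
  have htT := invol_mem_syl hA hv ht h2
  haveI : Nontrivial (syl hA hv) :=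
    ⟨⟨s, hsT⟩, 1, fun h => ne_one_of_invol hs (congrArg Subtype.val h)⟩
  have hnt := (syl hA hv).2.center_nontrivial
  have h2dvd : 2 ∣ Nat.card (center (syl hA hv)) := by
    obtain ⟨n, hn⟩ := IsPGroup.iff_card.1 ((syl hA hv).2.to_subgroup (center (syl hA hv)))
    rcases n with _ | n
    · have := Finite.one_lt_card_iff_nontrivial.2 hnt
      rw [hn, pow_zero] at this
      exact absurd this (lt_irrefl _)
    · rw [hn, pow_succ]; exact dvd_mul_left 2 _
  obtain ⟨⟨⟨z, hzT⟩, hzc⟩, hzo⟩ := exists_prime_orderOf_dvd_card' 2 h2dvd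
  rw [← Subgroup.orderOf_coe, ← Subgroup.orderOf_coe] at hzo
  have hzc' : ∀ p ∈ syl hA hv, p * z = z * p := fun p hp =>
    congrArg Subtype.val ((Subgroup.mem_center_iff.1 hzc) ⟨p, hp⟩)
  exact (fix_eq_central hA hv hzo hzT hzc' hs hsT).symm.trans
    (fix_eq_central hA hv hzo hzT hzc' ht htT)

/-- A real element of odd order stabilising one fixed point space stabilises all of them. -/
theorem smul_fix_of_smul {g a : G} (hg1 : g ≠ 1) (hg : Odd (orderOf g)) (hgr : IsConj g g⁻¹)
    (ha : orderOf a = 2) (h : g • fix D a = fix D a) {u : G} (hu : orderOf u = 2) :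
    g • fix D u = fix D u := by
  obtain ⟨v, hv, hav⟩ := exists_mem_fix_ne hA ha
  obtain ⟨w, hw, huw⟩ := exists_mem_fix_ne hA hu
  obtain ⟨k, hk⟩ := MulAction.exists_smul_eq G (syl hA hv) (syl hA hw)
  obtain ⟨c, hc, hcv⟩ := hA.trans g hg1 hg hgr v k
  have hmem : k * a * k⁻¹ ∈ syl hA hw := by
    rw [← hk]
    show k * a * k⁻¹ ∈ ((k • syl hA hv : Sylow 2 G) : Subgroup G)
    rw [Sylow.coe_subgroup_smul]
    exact Subgroup.smul_mem_pointwise_smul a (MulAut.conj k) _ (invol_mem_syl hA hv ha hav)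
  have hconj : ∀ m : G, orderOf (m * a * m⁻¹) = 2 := fun m => by rw [orderOf_conjugate, ha]
  have hfixc : ∀ m : G, (m * a * m⁻¹) • (m • v) = m • v := fun m => by
    rw [← mul_smul, inv_mul_cancel_right, mul_smul, hav]
  have e : fix D u = c • fix D a := by
    rw [smul_fix_eq, fix_eq_of_common hA hu (hconj k) hw huw (smul_of_mem_syl hA hw hmem)]
    refine fix_eq_of_common hA (hconj k) (hconj c) (smul_ne hA hv k) (hfixc k) ?_
    rw [← hcv]
    exact hfixc c
  rw [e, ← mul_smul, ← hc.eq, mul_smul, h]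

/-- An involution stabilising a fixed point space has that fixed point space. -/
theorem fix_eq_of_smul {u a : G} (hu : orderOf u = 2) (ha : orderOf a = 2)
    (h : u • fix D a = fix D a) : fix D u = fix D a := by
  obtain ⟨v, hv, hav⟩ := exists_mem_fix_ne hA ha
  have huv : u • v ∈ fix D a := by
    rw [← h]; exact Subgroup.smul_mem_pointwise_smul v u _ hav
  by_cases he : u • v = v
  · exact fix_eq_of_common hA hu ha hv he hav
  · refine fix_eq_of_common hA hu ha (v := v * u • v) ?_ ?_ (mul_mem (mem_fix.2 hav) huv)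
    · intro h1
      exact he ((eq_inv_of_mul_eq_one_right h1).trans (inv_eq_of_mul_eq_one_right (hA.sq v)))
    · rw [smul_mul', ← mul_smul, mul_self_of_invol hu, one_smul, mul_comm_D hA]

/-- Distinct involutions have distinct fixed point spaces. -/
theorem fix_injective {s t : G} (hs : orderOf s = 2) (ht : orderOf t = 2)
    (h : fix D s = fix D t) : s = t := by
  classical
  haveI := Fintype.ofFinite G
  set I : Finset G := Finset.univ.filter fun u => orderOf u = 2 with hI
  set B := I.image (fix D) with hB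
  have hIu : ∀ {u : G}, u ∈ I ↔ orderOf u = 2 := by simp [hI]
  suffices hcard : I.card ≤ B.card by
    exact Finset.injOn_of_card_image_eq (le_antisymm Finset.card_image_le hcard)
      (hIu.2 hs) (hIu.2 ht) h
  have hmaps : Set.MapsTo (fun p : (_ : G) × Subgroup D => (p.2, p.1 • p.2))
      ↑(I.sigma fun u => B.erase (fix D u)) ↑B.offDiag := by
    rintro ⟨u, X⟩ hp
    simp only [Finset.mem_coe, Finset.mem_sigma, Finset.mem_erase, Finset.mem_offDiag] at hp ⊢
    obtain ⟨hu, hne, hX⟩ := hp
    obtain ⟨a, ha, rfl⟩ := Finset.mem_image.1 hX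
    refine ⟨Finset.mem_image_of_mem _ ha, ?_, fun he => ?_⟩
    · rw [smul_fix_eq]
      exact Finset.mem_image_of_mem _ (hIu.2 (by rw [orderOf_conjugate]; exact hIu.1 ha))
    · exact hne (fix_eq_of_smul hA (hIu.1 hu) (hIu.1 ha) he.symm).symm
  have hinj : Set.InjOn (fun p : (_ : G) × Subgroup D => (p.2, p.1 • p.2))
      ↑(I.sigma fun u => B.erase (fix D u)) := by
    rintro ⟨t₁, X⟩ hp ⟨t₂, X'⟩ hp' he
    simp only [Prod.mk.injEq] at he
    obtain ⟨rfl, he⟩ := he
    simp only [Finset.mem_coe, Finset.mem_sigma, Finset.mem_erase] at hp hp'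
    obtain ⟨h1, hne, hX⟩ := hp
    obtain ⟨a, ha, rfl⟩ := Finset.mem_image.1 hX
    have ha' := hIu.1 ha
    have ht₁ := hIu.1 h1
    have ht₂ := hIu.1 hp'.1
    by_contra hne'
    have hne12 : t₁ ≠ t₂ := fun e => hne' (by rw [e])
    set g := t₁ * t₂ with hg
    have hgB : g • fix D a = fix D a := by
      rw [hg, mul_smul, ← he, ← mul_smul, mul_self_of_invol ht₁, one_smul]
    have hgB' : g • (t₁ • fix D a) = t₁ • fix D a := by
      rw [hg, mul_smul, he, ← mul_smul t₂ t₂, mul_self_of_invol ht₂, one_smul, he]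
    have hodd : Odd (orderOf g) := by
      rw [← Nat.not_even_iff_odd]
      intro hev
      obtain ⟨k, hk⟩ := even_iff_two_dvd.1 hev
      have hwo : orderOf (g ^ k) = 2 := by
        have hk0 : k ≠ 0 := fun h0 => (orderOf_pos g).ne' (by rw [hk, h0, mul_zero])
        rw [orderOf_pow' g hk0, hk, Nat.gcd_eq_right (dvd_mul_left k 2),
          Nat.mul_div_cancel _ (Nat.pos_of_ne_zero hk0)]
      have hmem : ∀ X : Subgroup D, g • X = X → (g ^ k) • X = X := fun X hX =>
        (MulAction.stabilizer G X).pow_mem hX k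
      have e1 := fix_eq_of_smul hA hwo ha' (hmem _ hgB)
      rw [smul_fix_eq] at hgB'
      have e2 := fix_eq_of_smul hA hwo (by rw [orderOf_conjugate, ha']) (hmem _ hgB')
      exact hne (fix_eq_of_smul hA ht₁ ha' (by rw [smul_fix_eq, ← e2, e1])).symm
    have hg1 : g ≠ 1 := fun e => hne12 (by
      rw [eq_inv_of_mul_eq_one_left e, inv_of_invol ht₂])
    have hgr : IsConj g g⁻¹ := isConj_iff.2 ⟨t₁, (invert_mul_invol ht₁ ht₂).1⟩
    have hgt := smul_fix_of_smul hA hg1 hodd hgr ha' hgB ht₁
    have ht21 : t₂ • fix D t₁ = fix D t₁ := by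
      have e : t₂ = t₁ * g := by rw [hg, ← mul_assoc, mul_self_of_invol ht₁, one_mul]
      rw [e, mul_smul, hgt, smul_fix_eq, mul_inv_cancel_right]
    obtain ⟨v, hv, hv1⟩ := exists_mem_fix_ne hA ht₁
    have hv2 : v ∈ fix D t₂ := fix_eq_of_smul hA ht₂ ht₁ ht21 ▸ hv1
    refine hv (hA.free g hg1 hodd hgr v ?_)
    rw [hg, mul_smul, mem_fix.1 hv2, hv1]
  have hcount := Finset.card_le_card_of_injOn _ hmaps hinj
  have hsum : ∀ u ∈ I, (B.erase (fix D u)).card = B.card - 1 := fun u hu =>
    Finset.card_erase_of_mem (Finset.mem_image_of_mem _ hu)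
  rw [Finset.card_sigma, Finset.sum_congr rfl hsum, Finset.sum_const, smul_eq_mul,
    Finset.offDiag_card] at hcount
  have hB2 : 2 ≤ B.card := by
    obtain ⟨y, hy1, hy, hty⟩ := exists_inverted hA ht
    refine Finset.one_lt_card.2 ⟨_, Finset.mem_image_of_mem _ (hIu.2 ht), _,
      Finset.mem_image_of_mem _ (hIu.2 (invol_mul_inverted ht hy hty)), fun he => ?_⟩
    obtain ⟨v, hv, htv⟩ := exists_mem_fix_ne hA ht
    exact hv (disjoint_fix hA hy1 hy hty htv (he ▸ mem_fix.2 htv))
  rw [show B.card * B.card - B.card = B.card * (B.card - 1) by rw [Nat.mul_sub_one]] at hcount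
  exact Nat.le_of_mul_le_mul_right hcount (by omega)

/-- Involutions with a common fixed vector are equal. -/
theorem eq_of_common {s t : G} (hs : orderOf s = 2) (ht : orderOf t = 2) {v : D} (hv : v ≠ 1)
    (h1 : s • v = v) (h2 : t • v = v) : s = t :=
  fix_injective hA hs ht (fix_eq_of_common hA hs ht hv h1 h2)

theorem eq_of_commute {s t : G} (hs : orderOf s = 2) (ht : orderOf t = 2) (hc : Commute s t) :
    s = t := by
  by_contra hne
  obtain ⟨E, -, hE2, hsE, htE, -⟩ := exists_four hs ht hne hc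
  obtain ⟨v, hv, hfix⟩ := exists_fixed hA (IsPGroup.of_card hE2)
  exact hne (eq_of_common hA hs ht hv (hfix s hsE) (hfix t htE))

/-- Groups satisfying the axioms are solvable. -/
theorem isSolvable : Group.IsSolvable G := by
  haveI : Fact (Nat.Prime 2) := ⟨Nat.prime_two⟩
  rcases Nat.even_or_odd (Nat.card G) with heven | hodd
  swap
  · exact solvable_of_odd hodd
  have hrank : ∀ E : Subgroup G, ¬ IsKleinFour E := by
    intro E hE
    have hexp : ∀ a : E, a * a = 1 := fun a => by
      rw [← pow_two, ← hE.exponent_two]; exact Monoid.pow_exponent_eq_one a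
    haveI : Nontrivial E := Finite.one_lt_card_iff_nontrivial.1 (by rw [hE.card_four]; norm_num)
    obtain ⟨a, ha⟩ := exists_ne (1 : E)
    obtain ⟨b, hb1, hba⟩ : ∃ b : E, b ≠ 1 ∧ b ≠ a := by
      by_contra hcon
      push Not at hcon
      have hsub : (Set.univ : Set E) ⊆ {1, a} := fun b _ => by
        by_cases hb : b = 1
        · exact Or.inl hb
        · exact Or.inr (hcon b hb)
      have := Set.ncard_le_ncard hsub
      rw [Set.ncard_univ, hE.card_four, Set.ncard_pair ha.symm] at this
      omega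
    have hinv : ∀ c : E, c⁻¹ = c := fun c => inv_eq_of_mul_eq_one_right (hexp c)
    have hab : Commute (a : G) (b : G) := by
      have h := hinv (a * b)
      rw [mul_inv_rev, hinv, hinv] at h
      exact congrArg Subtype.val h.symm
    refine hba (Subtype.ext (eq_of_commute hA ?_ ?_ hab).symm)
    · exact invol_of_mul_self (congrArg Subtype.val (hexp a)) fun h => ha (Subtype.ext h)
    · exact invol_of_mul_self (congrArg Subtype.val (hexp b)) fun h => hb1 (Subtype.ext h)
  obtain ⟨z, hz, N, hN, hNodd, hzN⟩ := Cfsg.Agent.S0225.result heven hrank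
  set C := centralizer ({z} : Set G) with hC
  -- the centraliser of all involutions
  set W := centralizer {t : G | orderOf t = 2} with hW
  have hWC : W ≤ C := centralizer_le (Set.singleton_subset_iff.2 hz)
  have hWn : W.Normal := ⟨fun w hw g => by
    rw [hW, mem_centralizer_iff] at hw ⊢
    intro t ht
    have h : orderOf (g⁻¹ * t * g) = 2 := by
      rw [← orderOf_conjugate g, show g * (g⁻¹ * t * g) * g⁻¹ = t by group]; exact ht
    calc t * (g * w * g⁻¹) = g * ((g⁻¹ * t * g) * w) * g⁻¹ := by group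
      _ = g * w * g⁻¹ * t := by rw [hw _ h]; group⟩
  have hWodd : Odd (Nat.card W) := by
    rw [← Nat.not_even_iff_odd, even_iff_two_dvd]
    intro h2
    obtain ⟨w, hw⟩ := exists_prime_orderOf_dvd_card' 2 h2
    rw [← Subgroup.orderOf_coe] at hw
    obtain ⟨y, hy1, hy, hwy⟩ := exists_inverted hA hw
    have hwy2 := invol_mul_inverted hw hy hwy
    have e := eq_of_commute hA hw hwy2 (mem_centralizer_iff.1 w.2 _ hwy2).symm
    exact hy1 (left_eq_mul.1 e)
  haveI := hWn
  set π := QuotientGroup.mk' (W.subgroupOf C) with hπ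
  have hker : Odd (Nat.card π.ker) := by
    rw [hπ, QuotientGroup.ker_mk', Nat.card_congr (subgroupOfEquivOfLe hWC).toEquiv]
    exact hWodd
  have hCsol : Group.IsSolvable C := by
    refine solvable_of_ext (W.subgroupOf C) ?_ (solvable_of_two_closed
      (two_closed_of_no_real fun r hro hreal => ?_))
    · refine solvable_of_odd ?_
      rw [Nat.card_congr (subgroupOfEquivOfLe hWC).toEquiv]
      exact hWodd
    obtain ⟨x, rfl, hxo, hxr⟩ :=
      liftsReal_of_odd_ker π (QuotientGroup.mk'_surjective _) hker r hro hreal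
    by_cases hx1 : (x : G) = 1
    · rw [show x = 1 from Subtype.ext hx1, map_one]
    rw [hπ, QuotientGroup.mk'_apply, QuotientGroup.eq_one_iff, mem_subgroupOf, hW,
      mem_centralizer_iff]
    intro t ht
    have hxG : IsConj (x : G) (x : G)⁻¹ := by simpa using C.subtype.map_isConj hxr
    have hxfix : (x : G) • fix D z = fix D z := by
      rw [smul_fix_eq, mem_centralizer_singleton_iff.1 x.2, mul_inv_cancel_right]
    have h := smul_fix_of_smul hA hx1 (by rwa [Subgroup.orderOf_coe]) hxG hz hxfix ht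
    rw [smul_fix_eq] at h
    have e := fix_injective hA (by rw [orderOf_conjugate]; exact ht) ht h
    calc t * x = (x * t * (x : G)⁻¹) * x := by rw [e]
      _ = x * t := by group
  haveI := hN
  refine solvable_of_ext N (solvable_of_odd hNodd) ?_
  refine Group.isSolvable_of_surjective (f := (QuotientGroup.mk' N).comp C.subtype) (fun q => ?_)
  obtain ⟨g, rfl⟩ := QuotientGroup.mk'_surjective N q
  have hc : g * z * g⁻¹ * z⁻¹ ∈ N := by
    have h := hN.conj_mem _ (inv_mem (hzN g)) 1
    simpa [mul_assoc] using h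
  obtain ⟨d, hd, hde⟩ := conj_of_coset hNodd hz hc
    (by rw [inv_mul_cancel_right, orderOf_conjugate, hz])
  rw [inv_mul_cancel_right] at hde
  refine ⟨⟨d⁻¹ * g, mem_centralizer_singleton_iff.2 ?_⟩, ?_⟩
  · calc d⁻¹ * g * z = d⁻¹ * (g * z * g⁻¹) * g := by group
      _ = z * (d⁻¹ * g) := by rw [hde]; group
  · show QuotientGroup.mk' N (d⁻¹ * g) = _
    rw [map_mul, map_inv, show QuotientGroup.mk' N d = 1 from (QuotientGroup.eq_one_iff d).2 hd,
      inv_one, one_mul]

end CfsgLib.RealGraph
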