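import Cfsg.Agent.RealGraph.Reduce

/-!
A finite group with an unmixed set of odd primes in its real class sizes is solvable.
-/

set_option autoImplicit false
set_option linter.unusedSectionVars false
set_option linter.style.haveILetI false

namespace CfsgLib.RealGraph

open Subgroup

universe u

variable {G : Type u} [Group G] [Finite G]

theorem solvable_of_good {P : Set ℕ} (hP : Unmixed G P) {y : G} (hy : Good P y) :
    Group.IsSolvable G := by
  haveI : Fact (Nat.Prime 2) := ⟨Nat.prime_two⟩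
  haveI hOn : (Cfsg.oddCore G).Normal := CfsgLib.Solvable.pPrimeCore_normal 2
  set π := QuotientGroup.mk' (Cfsg.oddCore G) with hπ
  have hπs : Function.Surjective π := QuotientGroup.mk'_surjective _
  have hkerodd : Odd (Nat.card π.ker) := odd_oddCore_ker hP
  suffices hQ : Group.IsSolvable (G ⧸ Cfsg.oddCore G) by
    refine solvable_of_ext (Cfsg.oddCore G) (solvable_of_odd ?_) hQ
    have h := hkerodd
    rwa [hπ, QuotientGroup.ker_mk'] at h
  set yb := π y with hyb
  have hyb2 : orderOf yb = 2 := Good.image_invol hP hy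
  -- the conjugates of the image of `y` generate an elementary abelian group in the 2-core
  set W := normalClosure ({yb} : Set (G ⧸ Cfsg.oddCore G)) with hW
  have hWO : W ≤ Cfsg.pCore 2 (G ⧸ Cfsg.oddCore G) := by
    haveI := CfsgLib.Solvable.pCore_normal (G := G ⧸ Cfsg.oddCore G) 2
    exact normalClosure_le_normal (Set.singleton_subset_iff.2 (Good.mem_pCore hP hy))
  have hWc : ∀ a ∈ W, ∀ b ∈ W, a * b = b * a := by
    haveI := CfsgLib.Solvable.pCore_normal (G := G ⧸ Cfsg.oddCore G) 2
    have h1 : W ≤ centralizer (Cfsg.pCore 2 (G ⧸ Cfsg.oddCore G) : Set (G ⧸ Cfsg.oddCore G)) :=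
      normalClosure_le_normal (Set.singleton_subset_iff.2
        (mem_centralizer_iff.2 fun b hb => (Good.image_commute hP hy hb).symm.eq))
    exact fun a ha b hb => mem_centralizer_iff.1 (h1 hb) a (hWO ha)
  have hW2 : ∀ a ∈ W, a * a = 1 := by
    intro a ha
    induction ha using closure_induction with
    | mem a ha =>
      obtain ⟨b, hb, hab⟩ := Group.mem_conjugatesOfSet_iff.1 ha
      rw [Set.mem_singleton_iff.1 hb] at hab
      obtain ⟨g, rfl⟩ := isConj_iff.1 hab
      rw [conj_mul, mul_self_of_invol hyb2, mul_one, mul_inv_cancel]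
    | one => exact one_mul 1
    | mul a b ha hb iha ihb =>
      calc a * b * (a * b) = a * (b * a) * b := by group
        _ = a * a * (b * b) := by rw [hWc b hb a ha]; group
        _ = 1 := by rw [iha, ihb, one_mul]
    | inv a ha iha => rw [← mul_inv_rev, iha, inv_one]
  have hconjW : ∀ a, IsConj yb a → a ∈ W := fun a ha =>
    subset_closure (Group.mem_conjugatesOfSet_iff.2 ⟨yb, rfl, ha⟩)
  have hinvW : ∀ a ∈ W, a⁻¹ = a := fun a ha => inv_eq_of_mul_eq_one_right (hW2 a ha)
  -- class sizes in the quotient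
  have hmap : ∀ u : G, orderOf u = 2 →
      (centralizer ({u} : Set G)).map π = centralizer ({π u} : Set (G ⧸ Cfsg.oddCore G)) :=
    fun u hu => map_centralizer_invol π hπs hkerodd hu
  have hdvd : ∀ u : G, orderOf u = 2 →
      (centralizer ({π u} : Set (G ⧸ Cfsg.oddCore G))).index ∣
        (centralizer ({u} : Set G)).index := fun u hu => by
    rw [← hmap u hu]; exact index_map_dvd _ hπs
  have hsol : ∀ u : G, Good P u →
      Group.IsSolvable (centralizer ({π u} : Set (G ⧸ Cfsg.oddCore G))) := fun u hu => by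
    rw [← hmap u (Good.invol hP hu)]
    haveI := Good.solvable hP hu
    exact Group.isSolvable_of_surjective (π.subgroupMap_surjective (centralizer ({u} : Set G)))
  by_cases hcen : yb ∈ center (G ⧸ Cfsg.oddCore G)
  · haveI := hsol y hy
    have htop : centralizer ({yb} : Set (G ⧸ Cfsg.oddCore G)) = ⊤ := eq_top_iff.2 fun g _ =>
      mem_centralizer_singleton_iff.2 ((Subgroup.mem_center_iff.1 hcen g))
    refine Group.isSolvable_of_surjective
      (f := (centralizer ({yb} : Set (G ⧸ Cfsg.oddCore G))).subtype) fun g => ?_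
    exact ⟨⟨g, htop ▸ mem_top g⟩, rfl⟩
  set n := (centralizer ({yb} : Set (G ⧸ Cfsg.oddCore G))).index with hn
  have hnodd : Odd n := (Good.odd_index hP hy).of_dvd_nat (hdvd y (Good.invol hP hy))
  have hnprime : ∀ p : ℕ, p.Prime → p ∣ n → p ∈ P := fun p hp hpn => by
    obtain ⟨hyr, q, hq, hqy⟩ := hy
    exact hP.unmixed y hyr q hq hqy p hp (hpn.trans (hdvd y (Good.invol hP ⟨hyr, q, hq, hqy⟩)))
  set D := closure {d : G ⧸ Cfsg.oddCore G | ∃ a b, IsConj yb a ∧ IsConj yb b ∧ d = a * b⁻¹}
    with hD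
  haveI hDn : D.Normal := ⟨fun d hd g => by
    refine (closure_le (D.comap (MulAut.conj g).toMonoidHom)).2 ?_ hd
    rintro _ ⟨a, b, ha, hb, rfl⟩
    exact subset_closure ⟨g * a * g⁻¹, g * b * g⁻¹, ha.trans (isConj_iff.2 ⟨g, rfl⟩),
      hb.trans (isConj_iff.2 ⟨g, rfl⟩), by simp [mul_assoc]⟩⟩
  have hDW : D ≤ W := by
    rw [hD, closure_le]
    rintro _ ⟨a, b, ha, hb, rfl⟩
    exact mul_mem (hconjW a ha) (inv_mem (hconjW b hb))
  -- noncentral elements of `D` lift to good involutions
  have hgood : ∀ w ∈ D, w ∉ center (G ⧸ Cfsg.oddCore G) →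
      ∃ u : G, orderOf u = 2 ∧ π u = w ∧ Good P u := by
    intro w hwD hwc
    have hwW := hDW hwD
    have hw1 : w ≠ 1 := fun h => hwc (h ▸ one_mem _)
    have hw2 := invol_of_mul_self (hW2 w hwW) hw1
    obtain ⟨u, hu, huw⟩ := exists_invol_lift π hπs hkerodd hw2
    refine ⟨u, hu, huw, ?_⟩
    by_contra hbad
    have hureal : IsConj u u⁻¹ := by rw [inv_of_invol hu]
    set m := (centralizer ({w} : Set (G ⧸ Cfsg.oddCore G))).index with hm
    have hmd : m ∣ (centralizer ({u} : Set G)).index := by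
      have := hdvd u hu
      rwa [huw] at this
    have hmprime : ∀ p : ℕ, p.Prime → p ∣ m → p ∉ P := fun p hp hpm hpP =>
      hbad ⟨hureal, p, hpP, hpm.trans hmd⟩
    have hmn : Nat.Coprime m n :=
      Nat.coprime_of_dvd fun p hp h1 h2 => hmprime p hp h1 (hnprime p hp h2)
    have hne : w * yb ≠ 1 := by
      intro h
      have hwy : w = yb := (eq_inv_of_mul_eq_one_left h).trans (inv_of_invol hyb2)
      rw [hm, hwy, ← hn, Nat.coprime_self] at hmn
      exact hcen (Subgroup.mem_center_iff.2 fun g =>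
        mem_centralizer_singleton_iff.1 ((index_eq_one.1 (hn ▸ hmn)).symm ▸ mem_top g))
    have hybW : yb ∈ W := hconjW yb (IsConj.refl _)
    have hv2 := invol_of_mul_self (hW2 _ (mul_mem hwW hybW)) hne
    obtain ⟨v, hv, hvw⟩ := exists_invol_lift π hπs hkerodd hv2
    set k := (centralizer ({w * yb} : Set (G ⧸ Cfsg.oddCore G))).index with hk
    have hkv : k ∣ (centralizer ({v} : Set G)).index := by
      have := hdvd v hv
      rwa [hvw] at this
    have hkmn : k ∣ m * n := by
      rw [hm, hn, ← index_inf_of_coprime hmn]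
      refine index_dvd_of_le fun c ⟨h1, h2⟩ => mem_centralizer_singleton_iff.2 ?_
      exact (Commute.mul_right (mem_centralizer_singleton_iff.1 h1)
        (mem_centralizer_singleton_iff.1 h2)).eq
    by_cases hvg : Good P v
    · -- the class of `y` is invariant under a translation
      have hkm : Nat.Coprime k m := Nat.coprime_of_dvd fun p hp h1 h2 => by
        obtain ⟨hvr, q, hq, hqv⟩ := hvg
        exact hmprime p hp h2 (hP.unmixed v hvr q hq hqv p hp (h1.trans hkv))
      have hle : (centralizer ({yb * w} : Set (G ⧸ Cfsg.oddCore G))).index ≤ n := by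
        rw [hWc yb hybW w hwW]
        exact Nat.le_of_dvd (Nat.pos_of_ne_zero index_ne_zero_of_finite)
          (hkm.dvd_of_dvd_mul_left hkmn)
      obtain ⟨g, hg⟩ : ∃ g, g * w * g⁻¹ ≠ w := by
        by_contra hcon
        push Not at hcon
        exact hwc (Subgroup.mem_center_iff.2 fun g => mul_inv_eq_iff_eq_mul.1 (hcon g))
      have hgW : g * w * g⁻¹ ∈ W := (inferInstance : W.Normal).conj_mem w hwW g
      refine (Nat.not_even_iff_odd.2 hnodd) ?_
      rw [hn, ← ncard_isConj]
      refine even_of_translate (hW2 _ (mul_mem hwW (inv_mem hgW))) ?_ fun z hz => ?_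
      · rw [ne_eq, mul_inv_eq_one]; exact fun h => hg h.symm
      · rw [← mul_assoc]
        exact isConj_translate hmn.symm hle hz (IsConj.refl w) (isConj_iff.2 ⟨g, rfl⟩)
    · -- the class of `w` is invariant under `D`
      have hkn : Nat.Coprime k n := Nat.coprime_of_dvd fun p hp h1 h2 =>
        hvg ⟨by rw [inv_of_invol hv], p, hnprime p hp h2, h1.trans hkv⟩
      have hle : k ≤ m := Nat.le_of_dvd (Nat.pos_of_ne_zero index_ne_zero_of_finite)
        (hkn.dvd_of_dvd_mul_right hkmn)
      have hinvD : ∀ d ∈ D, ∀ z, IsConj w z → IsConj w (z * d) ∧ IsConj w (z * d⁻¹) := by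
        intro d hd
        induction hd using closure_induction with
        | mem d hd =>
          obtain ⟨a, b, ha, hb, rfl⟩ := hd
          refine fun z hz => ⟨?_, ?_⟩
          · rw [← mul_assoc]; exact isConj_translate hmn hle hz ha hb
          · rw [mul_inv_rev, inv_inv, ← mul_assoc]; exact isConj_translate hmn hle hz hb ha
        | one => intro z hz; rw [inv_one, mul_one]; exact ⟨hz, hz⟩
        | mul a b _ _ iha ihb =>
          refine fun z hz => ⟨?_, ?_⟩
          · rw [← mul_assoc]; exact (ihb _ (iha z hz).1).1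
          · rw [mul_inv_rev, ← mul_assoc]; exact (iha _ (ihb z hz).2).2
        | inv a _ iha => exact fun z hz => ⟨(iha z hz).2, by rw [inv_inv]; exact (iha z hz).1⟩
      have h := (hinvD w hwD w (IsConj.refl w)).1
      rw [hW2 w hwW] at h
      exact hw1 (isConj_one_left.1 h)
  -- some element of `D` is not central
  obtain ⟨d₀, hd₀, hd₀c⟩ : ∃ d ∈ D, d ∉ center (G ⧸ Cfsg.oddCore G) := by
    by_contra hcon
    push Not at hcon
    refine hcen (Subgroup.mem_center_iff.2 fun g => mul_inv_eq_iff_eq_mul.1 ?_)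
    have ht : g * yb * g⁻¹ * yb⁻¹ ∈ D :=
      subset_closure ⟨_, _, isConj_iff.2 ⟨g, rfl⟩, IsConj.refl _, rfl⟩
    have hconj : IsConj yb (yb * (g * yb * g⁻¹ * yb⁻¹)) := by
      rw [Subgroup.mem_center_iff.1 (hcon _ ht) yb, inv_mul_cancel_right]
      exact isConj_iff.2 ⟨g, rfl⟩
    exact mul_inv_eq_one.1
      (eq_one_of_central_shift hnodd (hcon _ ht) (hW2 _ (hDW ht)) hconj)
  set F := D ⊓ center (G ⧸ Cfsg.oddCore G) with hF
  haveI hFn : F.Normal := normal_inf_normal _ _
  set π₁ := QuotientGroup.mk' F with hπ₁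
  haveI hVn : (D.map π₁).Normal := hDn.map π₁ (QuotientGroup.mk'_surjective F)
  haveI : Nontrivial (D.map π₁) := by
    refine ⟨⟨π₁ d₀, mem_map_of_mem _ hd₀⟩, 1, fun h => hd₀c ?_⟩
    exact ((QuotientGroup.eq_one_iff d₀).1 (congrArg Subtype.val h)).2
  set φ : (G ⧸ Cfsg.oddCore G) →* MulAut (D.map π₁) :=
    (MulAut.conjNormal (H := D.map π₁)).comp π₁ with hφ
  have hφapp : ∀ (q : G ⧸ Cfsg.oddCore G) (v : D.map π₁),
      ((φ q v : D.map π₁) : (G ⧸ Cfsg.oddCore G) ⧸ F) = π₁ q * v * (π₁ q)⁻¹ :=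
    fun q v => MulAut.conjNormal_apply _ _
  have hlift : ∀ v : D.map π₁, v ≠ 1 → ∃ u : G, orderOf u = 2 ∧ Good P u ∧
      (v : (G ⧸ Cfsg.oddCore G) ⧸ F) = π₁ (π u) ∧
      ∀ q, φ q v = v → q ∈ (centralizer ({u} : Set G)).map π := by
    rintro ⟨_, w, hwD, rfl⟩ hv
    have hwc : w ∉ center (G ⧸ Cfsg.oddCore G) := fun h =>
      hv (Subtype.ext ((QuotientGroup.eq_one_iff w).2 ⟨hwD, h⟩ : π₁ w = 1))
    obtain ⟨u, hu, huw, hug⟩ := hgood w hwD hwc
    refine ⟨u, hu, hug, by rw [huw], fun q hq => ?_⟩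
    rw [hmap u hu, huw, mem_centralizer_singleton_iff]
    have h := congrArg Subtype.val hq
    rw [hφapp] at h
    change π₁ q * π₁ w * (π₁ q)⁻¹ = π₁ w at h
    rw [← map_inv, ← map_mul, ← map_mul, hπ₁, QuotientGroup.mk'_apply, QuotientGroup.mk'_apply,
      eq_comm, QuotientGroup.eq, hinvW w (hDW hwD)] at h
    have hodd : Odd (centralizer ({w} : Set (G ⧸ Cfsg.oddCore G))).index :=
      (Good.odd_index hP hug).of_dvd_nat (huw ▸ hdvd u hu)
    have hshift := eq_one_of_central_shift hodd h.2 (hW2 _ (hDW h.1))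
      (by rw [← mul_assoc, hW2 w (hDW hwD), one_mul]; exact isConj_iff.2 ⟨q, rfl⟩)
    have he : q * w * q⁻¹ = w := by
      exact (eq_inv_of_mul_eq_one_right hshift).trans (hinvW w (hDW hwD))
    exact mul_inv_eq_iff_eq_mul.1 he
  -- the kernel of the action
  obtain ⟨u₀, hu₀, hug₀, hvu₀, hfix₀⟩ := hlift ⟨π₁ d₀, mem_map_of_mem _ hd₀⟩ fun h =>
    hd₀c ((QuotientGroup.eq_one_iff d₀).1 (congrArg Subtype.val h)).2
  have hKC : φ.ker ≤ (centralizer ({u₀} : Set G)).map π := fun q hq => hfix₀ q (by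
    rw [MonoidHom.mem_ker.1 hq]; rfl)
  haveI hKsol : Group.IsSolvable φ.ker := by
    haveI := hsol u₀ hug₀
    rw [hmap u₀ hu₀] at hKC
    exact Group.isSolvable_of_isSolvable_injective (inclusion_injective hKC)
  obtain ⟨T₀, hT₀, hT₀n⟩ := Good.exists_sylow hP hug₀
  set S₀ := T₀.mapSurjective hπs with hS₀
  have htwo : ∀ q ∈ φ.ker, ∀ j : ℕ, orderOf q = 2 ^ j → q ∈ S₀ := by
    intro q hq j hj
    have hn : zpowers q ≤ normalizer ((S₀ : Subgroup (G ⧸ Cfsg.oddCore G)) : Set _) := by
      obtain ⟨c, hc, rfl⟩ := hKC hq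
      exact zpowers_le.2 (le_normalizer_map π (mem_map_of_mem π (hT₀n hc)))
    exact (S₀.3 ((isPGroup_zpowers hj).to_sup_of_normal_right' S₀.2 hn) le_sup_right).le
      (mem_sup_left (mem_zpowers q))
  set P₂ := φ.ker ⊓ (S₀ : Subgroup (G ⧸ Cfsg.oddCore G)) with hP₂
  haveI hP₂n : P₂.Normal := ⟨fun a ha g => by
    have hk := (inferInstance : φ.ker.Normal).conj_mem a ha.1 g
    obtain ⟨j, hj⟩ := pow_eq_one_of_isPGroup S₀.2 ha.2
    exact ⟨hk, htwo _ hk j (by rw [orderOf_conjugate, hj])⟩⟩
  set g₂ : (G ⧸ Cfsg.oddCore G) ⧸ P₂ →* φ.range :=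
    QuotientGroup.lift P₂ φ.rangeRestrict (fun a ha => by
      rw [MonoidHom.mem_ker]; exact Subtype.ext (MonoidHom.mem_ker.1 ha.1)) with hg₂
  have hg₂s : Function.Surjective g₂ := fun r => by
    obtain ⟨q, rfl⟩ := φ.rangeRestrict_surjective r
    exact ⟨QuotientGroup.mk q, rfl⟩
  have hg₂odd : Odd (Nat.card g₂.ker) := by
    rw [← Nat.not_even_iff_odd, even_iff_two_dvd]
    intro h2
    obtain ⟨⟨r, hr⟩, hro⟩ := exists_prime_orderOf_dvd_card' 2 h2
    rw [← Subgroup.orderOf_coe] at hro
    obtain ⟨q, rfl⟩ := QuotientGroup.mk'_surjective P₂ r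
    have hqK : q ∈ φ.ker := by
      rw [MonoidHom.mem_ker] at hr ⊢
      exact congrArg Subtype.val hr
    have hqq : q * q ∈ P₂ := by
      rw [← QuotientGroup.eq_one_iff, ← QuotientGroup.mk'_apply (N := P₂), map_mul]
      exact mul_self_of_invol hro
    obtain ⟨j, hj⟩ := pow_eq_one_of_isPGroup S₀.2 hqq.2
    obtain ⟨i, hi⟩ := orderOf_two_pow_of_pow_eq_one (h := q) (k := j + 1) (by
      rw [pow_succ', pow_mul, pow_two, ← hj, pow_orderOf_eq_one])
    exact ne_one_of_invol hro ((QuotientGroup.eq_one_iff q).2 ⟨hqK, htwo q hqK i hi⟩)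
  set f : G →* φ.range := φ.rangeRestrict.comp π with hf
  have hfs : Function.Surjective f := φ.rangeRestrict_surjective.comp hπs
  have hlifts : LiftsReal f := by
    have h2 : LiftsReal (QuotientGroup.mk' P₂) :=
      liftsReal_of_two_ker _ (QuotientGroup.mk'_surjective _) (by
        rw [QuotientGroup.ker_mk']; exact S₀.2.to_le inf_le_right)
    have h := LiftsReal.comp (LiftsReal.comp (liftsReal_of_odd_ker g₂ hg₂s hg₂odd) h2)
      (liftsReal_of_odd_ker π hπs hkerodd)
    exact h
  have hA : RealAct φ.range (D.map π₁) := by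
    refine ⟨?_, ?_, ?_, ?_, ?_⟩
    · rintro ⟨_, w, hw, rfl⟩
      exact Subtype.ext (by
        show π₁ w * π₁ w = 1
        rw [← map_mul, hW2 w (hDW hw), map_one])
    · exact fun r hr => Subtype.ext (MulEquiv.ext hr)
    · intro v hv
      obtain ⟨u, hu, hug, hvu, hfix⟩ := hlift v hv
      obtain ⟨T, hT, hTn⟩ := Good.exists_sylow hP hug
      refine ⟨T.mapSurjective hfs, ?_, fun r hr => ?_⟩
      · rintro _ ⟨t, ht, rfl⟩
        refine Subtype.ext ?_
        show ((φ (π t) v : D.map π₁) : (G ⧸ Cfsg.oddCore G) ⧸ F) = v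
        rw [hφapp, hvu, ← map_mul, ← map_mul, mem_centralizer_singleton_iff.1 (hT ht), map_mul,
          map_mul, mul_inv_cancel_right]
      · obtain ⟨g, rfl⟩ := hfs r
        obtain ⟨c, hc, hce⟩ := hfix (π g) hr
        rw [show f g = f c from Subtype.ext (congrArg φ hce.symm)]
        exact le_normalizer_map f (mem_map_of_mem f (hTn hc))
    · intro r hr1 hro hrr v hv
      by_contra hv1
      obtain ⟨x, rfl, hxo, hxr⟩ := hlifts r hro hrr
      obtain ⟨u, hu, hug, hvu, hfix⟩ := hlift v hv1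
      obtain ⟨c, hc, hce⟩ := hfix (π x) hv
      have hx1 : x ≠ 1 := by rintro rfl; exact hr1 (map_one f)
      obtain ⟨a, hau, hax⟩ := Good.exists_inverter hP hug hxo hxr hx1
      set C := centralizer ({u} : Set G) with hC
      have hkerC : Odd (Nat.card (π.subgroupMap C).ker) := by
        refine hkerodd.of_dvd_nat ?_
        refine dvd_trans (dvd_of_eq ?_) (Subgroup.card_dvd_of_injective
          (((C.subtype.comp (π.subgroupMap C).ker.subtype).codRestrict π.ker fun z =>
            MonoidHom.mem_ker.2 (congrArg Subtype.val (MonoidHom.mem_ker.1 z.2))) :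
              (π.subgroupMap C).ker →* π.ker) (fun z z' h => by
                exact Subtype.ext (Subtype.ext
                  (congrArg (fun t : π.ker => (t : G)) h))))
        rfl
      set rC : C.map π := ⟨π x, ⟨c, hc, hce⟩⟩ with hrC
      have hrCo : Odd (orderOf rC) := by
        rw [← Subgroup.orderOf_coe]
        exact hxo.of_dvd_nat (orderOf_map_dvd π x)
      have hrCr : IsConj rC rC⁻¹ := isConj_iff.2
        ⟨⟨π a, mem_map_of_mem π (mem_centralizer_singleton_iff.2 hau)⟩, Subtype.ext (by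
          show π a * π x * (π a)⁻¹ = (π x)⁻¹
          rw [← map_inv, ← map_inv, ← map_mul, ← map_mul, hax])⟩
      obtain ⟨x', hx', hxo', hxr'⟩ := liftsReal_of_odd_ker (π.subgroupMap C)
        (π.subgroupMap_surjective C) hkerC rC hrCo hrCr
      have hx'1 := Good.no_real hP hug (x := (x' : G)) (by rwa [Subgroup.orderOf_coe])
        (by simpa using C.subtype.map_isConj hxr') (mem_centralizer_singleton_iff.1 x'.2)
      refine hr1 (Subtype.ext ?_)
      show φ (π x) = 1
      rw [show π x = π (x' : G) from (congrArg Subtype.val hx').symm, hx'1, map_one, map_one]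
    · intro r hr1 hro hrr v r'
      by_cases hv : v = 1
      · exact ⟨1, Commute.one_left r, by rw [hv, smul_one, smul_one]⟩
      obtain ⟨x, rfl, hxo, hxr⟩ := hlifts r hro hrr
      obtain ⟨g, rfl⟩ := hfs r'
      obtain ⟨u, hu, hug, hvu, -⟩ := hlift v hv
      have hx1 : x ≠ 1 := by rintro rfl; exact hr1 (map_one f)
      obtain ⟨c, hc, a, ha, rfl⟩ :=
        exists_mul_of_coprime (Good.coprime_real hP hug hxo hxr hx1) g
      refine ⟨f c, Commute.map (mem_centralizer_singleton_iff.1 hc) f, ?_⟩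
      rw [map_mul, mul_smul]
      congr 1
      refine (Subtype.ext ?_ : f a • v = v).symm
      show ((φ (π a) v : D.map π₁) : (G ⧸ Cfsg.oddCore G) ⧸ F) = v
      rw [hφapp, hvu, ← map_mul, ← map_mul, mem_centralizer_singleton_iff.1 ha, map_mul,
        map_mul, mul_inv_cancel_right]
  haveI := isSolvable hA
  exact solvable_of_ext φ.ker hKsol
    (Group.isSolvable_of_isSolvable_injective
      (f := (QuotientGroup.quotientKerEquivRange φ).toMonoidHom)
      (QuotientGroup.quotientKerEquivRange φ).injective)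

end CfsgLib.RealGraph
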