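import Cfsg.Agent.RealGraph.Sizes
import Cfsg.Agent.Solvable.Basics

/-!
A finite group in which real class sizes split into two coprime kinds is solvable.
-/

set_option autoImplicit false
set_option linter.unusedSectionVars false
set_option linter.style.haveILetI false

namespace CfsgLib.RealGraph

open Subgroup

universe u

variable {G : Type u} [Group G] [Finite G]

/-- The set `P` of odd primes does not mix with other primes in real class sizes. -/
structure Unmixed (G : Type u) [Group G] (P : Set ℕ) : Prop where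
  not_two : 2 ∉ P
  prime : ∀ q ∈ P, q.Prime
  unmixed : ∀ x : G, IsConj x x⁻¹ → ∀ q ∈ P, q ∣ (centralizer ({x} : Set G)).index →
    ∀ p : ℕ, p.Prime → p ∣ (centralizer ({x} : Set G)).index → p ∈ P

/-- A real element whose class size involves the primes `P`. -/
def Good (P : Set ℕ) (y : G) : Prop :=
  IsConj y y⁻¹ ∧ ∃ q ∈ P, q ∣ (centralizer ({y} : Set G)).index

theorem even_size_of_real_odd {x : G} (hxo : Odd (orderOf x)) (hxr : IsConj x x⁻¹) (hx1 : x ≠ 1) :
    Even (centralizer ({x} : Set G)).index := by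
  by_contra h
  rw [Nat.not_even_iff_odd] at h
  have h2 := (Cfsg.Agent.S3863.result x hxr).2.1 h
  exact hx1 (eq_one_of_eq_inv_odd hxo (eq_inv_of_mul_eq_one_left (by rw [← pow_two]; exact h2)))

variable {P : Set ℕ} (hP : Unmixed G P)
include hP

theorem Good.odd_index {y : G} (hy : Good P y) : Odd (centralizer ({y} : Set G)).index := by
  obtain ⟨hyr, q, hq, hqy⟩ := hy
  rw [← Nat.not_even_iff_odd, even_iff_two_dvd]
  exact fun h2 => hP.not_two (hP.unmixed y hyr q hq hqy 2 Nat.prime_two h2)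

theorem Good.invol {y : G} (hy : Good P y) : orderOf y = 2 := by
  have h2 := (Cfsg.Agent.S3863.result y hy.1).2.1 (Good.odd_index hP hy)
  obtain ⟨-, q, hq, hqy⟩ := hy
  refine orderOf_eq_prime h2 fun h1 => ?_
  rw [h1, show centralizer ({(1 : G)} : Set G) = ⊤ by ext; simp [mem_centralizer_singleton_iff],
    index_top, Nat.dvd_one] at hqy
  exact (hP.prime q hq).ne_one hqy

theorem Good.coprime_real {y x : G} (hy : Good P y) (hxo : Odd (orderOf x))
    (hxr : IsConj x x⁻¹) (hx1 : x ≠ 1) :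
    (centralizer ({x} : Set G)).index.Coprime (centralizer ({y} : Set G)).index := by
  refine Nat.coprime_of_dvd fun p hp h1 h2 => ?_
  obtain ⟨q, hq, hqy⟩ := hy.2
  exact hP.not_two (hP.unmixed x hxr p (hP.unmixed y hy.1 q hq hqy p hp h2) h1 2 Nat.prime_two
    (even_iff_two_dvd.1 (even_size_of_real_odd hxo hxr hx1)))

theorem Good.exists_inverter {y x : G} (hy : Good P y) (hxo : Odd (orderOf x))
    (hxr : IsConj x x⁻¹) (hx1 : x ≠ 1) :
    ∃ a : G, a * y = y * a ∧ a * x * a⁻¹ = x⁻¹ := by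
  obtain ⟨t, ht⟩ := isConj_iff.1 hxr
  obtain ⟨c, hc, a, ha, rfl⟩ :=
    exists_mul_of_coprime (Good.coprime_real hP hy hxo hxr hx1) t
  refine ⟨a, mem_centralizer_singleton_iff.1 ha, ?_⟩
  calc a * x * a⁻¹ = c⁻¹ * (c * a * x * (c * a)⁻¹) * c := by group
    _ = c⁻¹ * (x⁻¹ * c) := by rw [ht, mul_assoc]
    _ = x⁻¹ := by
      rw [show x⁻¹ * c = c * x⁻¹ from
        (Commute.inv_right (mem_centralizer_singleton_iff.1 hc)).symm.eq, inv_mul_cancel_left]

/-- No real element of odd order commutes with a good element. -/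
theorem Good.no_real {y x : G} (hy : Good P y) (hxo : Odd (orderOf x)) (hxr : IsConj x x⁻¹)
    (hxy : x * y = y * x) : x = 1 := by
  by_contra hx1
  obtain ⟨a, hay, hax⟩ := Good.exists_inverter hP hy hxo hxr hx1
  have hy2 := Good.invol hP hy
  have hreal : IsConj (x * y) (x * y)⁻¹ := isConj_iff.2 ⟨a, by
    rw [← conj_mul, hax, show a * y * a⁻¹ = y by rw [hay, mul_inv_cancel_right], mul_inv_rev,
      inv_of_invol hy2]
    exact (Commute.inv_left hxy).eq⟩
  have hle : centralizer ({x * y} : Set G) ≤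
      centralizer ({x} : Set G) ⊓ centralizer ({y} : Set G) := by
    intro c hc
    have hc' : Commute c (x * y) := mem_centralizer_singleton_iff.1 hc
    obtain ⟨l, hl⟩ := id hxo
    have hy1 : y = (x * y) ^ orderOf x := by
      rw [Commute.mul_pow hxy, pow_orderOf_eq_one, one_mul, hl, pow_succ, pow_mul, pow_two,
        mul_self_of_invol hy2, one_pow, one_mul]
    have hcy : Commute c y := by rw [hy1]; exact hc'.pow_right _
    have hcx : Commute c x := by
      have := hc'.mul_right hcy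
      rwa [mul_assoc, mul_self_of_invol hy2, mul_one] at this
    exact ⟨mem_centralizer_singleton_iff.2 hcx.eq, mem_centralizer_singleton_iff.2 hcy.eq⟩
  obtain ⟨q, hq, hqy⟩ := hy.2
  have hq' : q ∣ (centralizer ({x * y} : Set G)).index :=
    hqy.trans (index_dvd_of_le (hle.trans inf_le_right))
  exact hP.not_two (hP.unmixed _ hreal q hq hq' 2 Nat.prime_two
    ((even_iff_two_dvd.1 (even_size_of_real_odd hxo hxr hx1)).trans
      (index_dvd_of_le (hle.trans inf_le_left))))

theorem Good.two_closed {y : G} (hy : Good P y)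
    (S : Sylow 2 (centralizer ({y} : Set G))) :
    (S : Subgroup (centralizer ({y} : Set G))).Normal :=
  two_closed_of_no_real (fun x hxo hxr => Subtype.ext
    (Good.no_real hP hy (by rwa [Subgroup.orderOf_coe])
      (by simpa using (centralizer ({y} : Set G)).subtype.map_isConj hxr)
      (mem_centralizer_singleton_iff.1 x.2))) S

theorem Good.solvable {y : G} (hy : Good P y) :
    Group.IsSolvable (centralizer ({y} : Set G)) :=
  solvable_of_two_closed (Good.two_closed hP hy)

/-- The Sylow 2-subgroup inside the centralizer of a good element. -/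
theorem Good.exists_sylow {y : G} (hy : Good P y) :
    ∃ T : Sylow 2 G, (T : Subgroup G) ≤ centralizer ({y} : Set G) ∧
      centralizer ({y} : Set G) ≤ normalizer ((T : Subgroup G) : Set G) := by
  haveI : Fact (Nat.Prime 2) := ⟨Nat.prime_two⟩
  obtain ⟨S⟩ := (inferInstance : Nonempty (Sylow 2 (centralizer ({y} : Set G))))
  have hnd : ¬ 2 ∣ ((S : Subgroup (centralizer ({y} : Set G))).map
      (centralizer ({y} : Set G)).subtype).index := by
    rw [index_map_subtype]
    exact Nat.prime_two.not_dvd_mul S.not_dvd_index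
      (fun h => (Nat.not_even_iff_odd.2 (Good.odd_index hP hy)) (even_iff_two_dvd.2 h))
  refine ⟨(S.2.map _).toSylow hnd, map_subtype_le _, ?_⟩
  haveI := Good.two_closed hP hy S
  intro c hc
  rw [IsPGroup.toSylow_coe, mem_normalizer_iff_map_conj_eq]
  refine eq_of_le_of_card_ge ?_ ?_
  · rintro _ ⟨_, ⟨p, hp, rfl⟩, rfl⟩
    exact ⟨⟨c, hc⟩ * p * ⟨c, hc⟩⁻¹, ‹(S : Subgroup _).Normal›.conj_mem p hp _, rfl⟩
  · exact le_of_eq (card_map_of_injective (MulAut.conj c).injective).symm

theorem odd_oddCore_ker : Odd (Nat.card (QuotientGroup.mk' (Cfsg.oddCore G)).ker) := by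
  rw [QuotientGroup.ker_mk']
  exact (Nat.coprime_two_right).1 (CfsgLib.Solvable.coprime_card_pPrimeCore (G := G) 2)

/-- The image of a good element lies in the 2-core of the quotient by the odd core. -/
theorem Good.mem_pCore {y : G} (hy : Good P y) :
    QuotientGroup.mk' (Cfsg.oddCore G) y ∈ Cfsg.pCore 2 (G ⧸ Cfsg.oddCore G) := by
  haveI : Fact (Nat.Prime 2) := ⟨Nat.prime_two⟩
  set π := QuotientGroup.mk' (Cfsg.oddCore G) with hπ
  have hy2 := Good.invol hP hy
  have hπy : orderOf (π y) = 2 := by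
    refine invol_of_mul_self (by rw [← map_mul, mul_self_of_invol hy2, map_one]) fun h => ?_
    have := odd_orderOf_of_mem (odd_oddCore_ker hP) (MonoidHom.mem_ker.2 h : y ∈ π.ker)
    rw [hy2] at this
    exact absurd this (by decide)
  by_contra hout
  obtain ⟨r, hr1, hro, hri⟩ := Invol.exists_inverted_odd (π y) hπy hout
  obtain ⟨x, hx, hxo, hxi⟩ := exists_lift_inverted π (odd_oddCore_ker hP)
    (MonoidHom.mem_range.2 (QuotientGroup.mk'_surjective _ r)) hro (j := 1)
    (by rw [hy2, pow_one]) hri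
  have hx1 : x ≠ 1 := by rintro rfl; exact hr1 (by rw [← hx, map_one])
  have hxr : IsConj x x⁻¹ := isConj_iff.2 ⟨y, hxi⟩
  have hall : ∀ g : G, y * (g * x * g⁻¹) * y⁻¹ = (g * x * g⁻¹)⁻¹ := by
    intro g
    obtain ⟨c, hc, a, ha, e⟩ :=
      exists_mul_of_coprime (Good.coprime_real hP hy hxo hxr hx1) g⁻¹
    have hgy : g⁻¹ * y * g = c * y * c⁻¹ := by
      rw [show g = (c * a)⁻¹ by rw [← e, inv_inv], inv_inv]
      calc c * a * y * (c * a)⁻¹ = c * (a * y) * a⁻¹ * c⁻¹ := by group
        _ = c * y * c⁻¹ := by rw [mem_centralizer_singleton_iff.1 ha]; group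
    have hinv : (g⁻¹ * y * g) * x * (g⁻¹ * y * g)⁻¹ = x⁻¹ := by
      have hc' : c⁻¹ * x * c = x := by
        rw [mul_assoc, (mem_centralizer_singleton_iff.1 hc).symm, inv_mul_cancel_left]
      rw [hgy]
      calc c * y * c⁻¹ * x * (c * y * c⁻¹)⁻¹ = c * (y * (c⁻¹ * x * c) * y⁻¹) * c⁻¹ := by group
        _ = c * x⁻¹ * c⁻¹ := by rw [hc', hxi]
        _ = x⁻¹ := by
          rw [(Commute.inv_right (mem_centralizer_singleton_iff.1 hc)).eq, mul_inv_cancel_right]
    calc y * (g * x * g⁻¹) * y⁻¹ = g * ((g⁻¹ * y * g) * x * (g⁻¹ * y * g)⁻¹) * g⁻¹ := by group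
      _ = _ := by rw [hinv, conj_inv]
  have hcomm : ∀ g h : G, Commute (g * x * g⁻¹) (h * x * h⁻¹) := by
    intro g h
    have h₃ := hall (h * x * h⁻¹ * g)
    rw [show h * x * h⁻¹ * g * x * (h * x * h⁻¹ * g)⁻¹ =
      (h * x * h⁻¹) * (g * x * g⁻¹) * (h * x * h⁻¹)⁻¹ by group] at h₃
    have h₁ := hall g
    have h₂ := hall h
    set x₁ := g * x * g⁻¹ with hx₁
    set x₂ := h * x * h⁻¹ with hx₂
    have e : x₂⁻¹ * x₁⁻¹ * x₂ = x₂ * x₁⁻¹ * x₂⁻¹ := by
      calc x₂⁻¹ * x₁⁻¹ * x₂ = (y * x₂ * y⁻¹) * (y * x₁ * y⁻¹) * (y * x₂ * y⁻¹)⁻¹ := by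
            rw [h₁, h₂, inv_inv]
        _ = y * (x₂ * x₁ * x₂⁻¹) * y⁻¹ := by group
        _ = x₂ * x₁⁻¹ * x₂⁻¹ := by rw [h₃, conj_inv]
    have hsq : Commute (x₂ * x₂) x₁⁻¹ := by
      rw [Commute, SemiconjBy]
      calc x₂ * x₂ * x₁⁻¹ = x₂ * (x₂ * x₁⁻¹ * x₂⁻¹) * x₂ := by group
        _ = x₁⁻¹ * (x₂ * x₂) := by rw [← e]; group
    obtain ⟨r, hr, hr2⟩ : ∃ r : ℕ, x₂ = (x₂ * x₂) ^ r ∧ True := by
      have hx₂o : Odd (orderOf x₂) := by rw [hx₂, orderOf_conjugate]; exact hxo
      obtain ⟨l, hl⟩ := hx₂o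
      exact ⟨l + 1, by
        rw [← pow_two, ← pow_mul, show 2 * (l + 1) = orderOf x₂ + 1 by omega, pow_succ,
          pow_orderOf_eq_one, one_mul], trivial⟩
    have := (hsq.pow_left r).inv_right
    rw [inv_inv, ← hr] at this
    exact this.symm
  set A := closure (Group.conjugatesOfSet {x}) with hA
  have hgen : ∀ a ∈ Group.conjugatesOfSet {x}, ∃ g : G, g * x * g⁻¹ = a := fun a ha => by
    obtain ⟨b, hb, hab⟩ := Group.mem_conjugatesOfSet_iff.1 ha
    rw [Set.mem_singleton_iff.1 hb] at hab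
    exact isConj_iff.1 hab
  have hcA : ∀ a ∈ A, ∀ b ∈ A, a * b = b * a := by
    have h1 : A ≤ centralizer (Group.conjugatesOfSet {x}) := by
      rw [hA, closure_le]
      intro a ha
      obtain ⟨g, rfl⟩ := hgen a ha
      refine mem_centralizer_iff.2 fun b hb => ?_
      obtain ⟨h, rfl⟩ := hgen b hb
      exact (hcomm h g).eq
    intro a ha b hb
    have h2 := h1 hb
    rw [← centralizer_closure] at h2
    exact mem_centralizer_iff.1 h2 a ha
  have hexp : ∀ a ∈ A, a ^ orderOf x = 1 := by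
    intro a ha
    induction ha using closure_induction with
    | mem a ha =>
      obtain ⟨g, rfl⟩ := hgen a ha
      rw [conj_pow, pow_orderOf_eq_one, mul_one, mul_inv_cancel]
    | one => exact one_pow _
    | mul a b ha hb iha ihb => rw [Commute.mul_pow (hcA a ha b hb), iha, ihb, one_mul]
    | inv a ha iha => rw [inv_pow, iha, inv_one]
  have hAodd : (Nat.card A).Coprime 2 := by
    rw [Nat.coprime_two_right, ← Nat.not_even_iff_odd, even_iff_two_dvd]
    intro h2
    obtain ⟨a, ha⟩ := exists_prime_orderOf_dvd_card' 2 h2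
    have := orderOf_dvd_of_pow_eq_one (hexp a a.2)
    rw [Subgroup.orderOf_coe, ha] at this
    exact (Nat.not_even_iff_odd.2 hxo) (even_iff_two_dvd.2 this)
  have hle : A ≤ Cfsg.oddCore G :=
    CfsgLib.Solvable.le_pPrimeCore 2 (Subgroup.normalClosure_normal (s := {x})) hAodd
  refine hr1 ?_
  rw [← hx, hπ, QuotientGroup.mk'_apply, QuotientGroup.eq_one_iff]
  exact hle (subset_closure (Group.subset_conjugatesOfSet rfl))

theorem Good.image_invol {y : G} (hy : Good P y) :
    orderOf (QuotientGroup.mk' (Cfsg.oddCore G) y) = 2 := by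
  have hy2 := Good.invol hP hy
  refine invol_of_mul_self (by rw [← map_mul, mul_self_of_invol hy2, map_one]) fun h => ?_
  have := odd_orderOf_of_mem (odd_oddCore_ker hP)
    (MonoidHom.mem_ker.2 h : y ∈ (QuotientGroup.mk' (Cfsg.oddCore G)).ker)
  rw [hy2] at this
  exact absurd this (by decide)

theorem Good.image_commute {y : G} (hy : Good P y) {b : G ⧸ Cfsg.oddCore G}
    (hb : b ∈ Cfsg.pCore 2 (G ⧸ Cfsg.oddCore G)) :
    Commute (QuotientGroup.mk' (Cfsg.oddCore G) y) b := by
  haveI : Fact (Nat.Prime 2) := ⟨Nat.prime_two⟩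
  obtain ⟨T, hT, -⟩ := Good.exists_sylow hP hy
  have h := Fitting.pCore_le_sylow
    (T.mapSurjective (QuotientGroup.mk'_surjective (Cfsg.oddCore G))) hb
  obtain ⟨t, ht, rfl⟩ := h
  exact (Commute.map (mem_centralizer_singleton_iff.1 (hT ht))
    (QuotientGroup.mk' (Cfsg.oddCore G))).symm

end CfsgLib.RealGraph
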