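import Cfsg.Agent.RealGraph.Core
import Mathlib.GroupTheory.GroupAction.ConjAct

/-!
Class sizes, coprime indices and translations of conjugacy classes.
-/

set_option autoImplicit false
set_option linter.unusedSectionVars false
set_option linter.style.haveILetI false

namespace CfsgLib.RealGraph

open Subgroup

universe u

variable {G : Type u} [Group G] [Finite G]

/-- The size of a conjugacy class is the index of the centralizer. -/
theorem ncard_isConj (w : G) :
    ({z : G | IsConj w z}).ncard = (centralizer ({w} : Set G)).index := by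
  have h : {z : G | IsConj w z} = MulAction.orbit (ConjAct G) w := by
    ext z
    rw [Set.mem_setOf_eq, MulAction.mem_orbit_iff, isConj_iff]
    exact ⟨fun ⟨c, hc⟩ => ⟨ConjAct.toConjAct c, by rw [ConjAct.toConjAct_smul, hc]⟩,
      fun ⟨c, hc⟩ => ⟨ConjAct.ofConjAct c, by rw [← ConjAct.smul_def, hc]⟩⟩
  rw [h, ← MulAction.index_stabilizer, centralizer_eq_comap_stabilizer]
  exact (index_comap_of_surjective _ (MulEquiv.surjective _)).symm

theorem index_inf_of_coprime {H K : Subgroup G} (hc : H.index.Coprime K.index) :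
    (H ⊓ K).index = H.index * K.index :=
  le_antisymm index_inf_le (Nat.le_of_dvd (Nat.pos_of_ne_zero index_ne_zero_of_finite)
    (hc.mul_dvd_of_dvd_of_dvd (index_dvd_of_le inf_le_left) (index_dvd_of_le inf_le_right)))

/-- Subgroups of coprime index factorise the group. -/
theorem exists_mul_of_coprime {H K : Subgroup G} (hc : H.index.Coprime K.index) (g : G) :
    ∃ h ∈ H, ∃ k ∈ K, g = h * k := by
  have hrel : K.relIndex H = K.index := by
    have h1 := relIndex_mul_index (inf_le_left : H ⊓ K ≤ H)
    rw [inf_relIndex_left, index_inf_of_coprime hc, mul_comm H.index K.index] at h1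
    exact Nat.eq_of_mul_eq_mul_right (Nat.pos_of_ne_zero index_ne_zero_of_finite) h1
  have horb : MulAction.orbit H (QuotientGroup.mk 1 : G ⧸ K) = Set.univ := by
    refine Set.eq_of_subset_of_ncard_le (Set.subset_univ _) ?_
    rw [Set.ncard_univ, ← index_eq_card, ← MulAction.index_stabilizer, ← hrel]
    refine le_of_eq ?_
    rw [relIndex]
    congr 1
    ext h
    rw [MulAction.mem_stabilizer_iff, mem_subgroupOf]
    show _ ↔ (QuotientGroup.mk ((h : G) * 1) : G ⧸ K) = QuotientGroup.mk 1
    rw [mul_one, eq_comm (a := (QuotientGroup.mk (h : G) : G ⧸ K)), QuotientGroup.eq, inv_one,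
      one_mul]
  obtain ⟨h, hh⟩ := (horb.symm ▸ Set.mem_univ (QuotientGroup.mk g : G ⧸ K) :
    (QuotientGroup.mk g : G ⧸ K) ∈ MulAction.orbit H (QuotientGroup.mk 1 : G ⧸ K))
  change (QuotientGroup.mk ((h : G) * 1) : G ⧸ K) = QuotientGroup.mk g at hh
  rw [mul_one] at hh
  exact ⟨h, h.2, (h : G)⁻¹ * g, QuotientGroup.eq.1 hh, by group⟩

/-- A conjugate of a pair of elements with coprime class sizes. -/
theorem isConj_mul_of_coprime {w y : G}
    (hc : (centralizer ({w} : Set G)).index.Coprime (centralizer ({y} : Set G)).index) {z a : G}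
    (hz : IsConj w z) (ha : IsConj y a) : IsConj (w * y) (z * a) := by
  obtain ⟨g, rfl⟩ := isConj_iff.1 hz
  obtain ⟨h, rfl⟩ := isConj_iff.1 ha
  obtain ⟨c, hcw, d, hdy, e⟩ := exists_mul_of_coprime hc (g⁻¹ * h)
  refine isConj_iff.2 ⟨g * c, ?_⟩
  have e1 : g * c = h * d⁻¹ := by
    calc g * c = g * (c * d) * d⁻¹ := by group
      _ = h * d⁻¹ := by rw [← e]; group
  have hw : g * c * w * (g * c)⁻¹ = g * w * g⁻¹ := by
    calc g * c * w * (g * c)⁻¹ = g * (c * w) * c⁻¹ * g⁻¹ := by group
      _ = g * w * g⁻¹ := by rw [mem_centralizer_singleton_iff.1 hcw]; group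
  have hy : g * c * y * (g * c)⁻¹ = h * y * h⁻¹ := by
    rw [e1]
    calc h * d⁻¹ * y * (h * d⁻¹)⁻¹ = h * d⁻¹ * (y * d) * h⁻¹ := by group
      _ = h * y * h⁻¹ := by rw [← mem_centralizer_singleton_iff.1 hdy]; group
  rw [← hw, ← hy]
  group

/-- If the class of `w y` is no larger than that of `w`, the class of `w` is invariant under
right translation by quotients of conjugates of `y`. -/
theorem isConj_translate {w y : G}
    (hc : (centralizer ({w} : Set G)).index.Coprime (centralizer ({y} : Set G)).index)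
    (hle : (centralizer ({w * y} : Set G)).index ≤ (centralizer ({w} : Set G)).index) {z a b : G}
    (hz : IsConj w z) (ha : IsConj y a) (hb : IsConj y b) : IsConj w (z * a * b⁻¹) := by
  have himg : (fun x => x * b) '' {x | IsConj w x} = {x | IsConj (w * y) x} := by
    refine Set.eq_of_subset_of_ncard_le ?_ ?_
    · rintro _ ⟨x, hx, rfl⟩
      exact isConj_mul_of_coprime hc hx hb
    · rw [Set.ncard_image_of_injective _ (mul_left_injective b), ncard_isConj, ncard_isConj]
      exact hle
  have hmem : z * a ∈ {x | IsConj (w * y) x} := isConj_mul_of_coprime hc hz ha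
  rw [← himg] at hmem
  obtain ⟨x, hx, e⟩ := hmem
  rw [← e, mul_inv_cancel_right]
  exact hx

/-- A set invariant under a fixed point free translation of order two has even size. -/
theorem even_of_translate {S : Set G} {t : G} (ht : t * t = 1) (ht1 : t ≠ 1)
    (hS : ∀ z ∈ S, z * t ∈ S) : Even S.ncard := by
  haveI : Fact (Nat.Prime 2) := ⟨Nat.prime_two⟩
  let φ : Equiv.Perm S :=
    { toFun := fun z => ⟨z.1 * t, hS z.1 z.2⟩
      invFun := fun z => ⟨z.1 * t, hS z.1 z.2⟩
      left_inv := fun z => Subtype.ext (show z.1 * t * t = z.1 by rw [mul_assoc, ht, mul_one])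
      right_inv := fun z => Subtype.ext (show z.1 * t * t = z.1 by rw [mul_assoc, ht, mul_one]) }
  have hφ : φ ^ (2 ^ 1) = 1 := Equiv.ext fun z => Subtype.ext (by
    rw [pow_one, pow_two, Equiv.Perm.mul_apply]
    show z.1 * t * t = z.1
    rw [mul_assoc, ht, mul_one])
  have hP : IsPGroup 2 (zpowers φ) := by
    obtain ⟨i, -, hi⟩ := (Nat.dvd_prime_pow Nat.prime_two).1 (orderOf_dvd_of_pow_eq_one hφ)
    exact IsPGroup.of_card (n := i) (by rw [Nat.card_zpowers, hi])
  have hmod := hP.card_modEq_card_fixedPoints S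
  have h0 : MulAction.fixedPoints (zpowers φ) S = ∅ := by
    refine Set.eq_empty_iff_forall_notMem.2 fun z hz => ht1 ?_
    have h := congrArg Subtype.val (hz ⟨φ, mem_zpowers φ⟩)
    change z.1 * t = z.1 at h
    exact mul_eq_left.1 h
  rw [h0, Nat.card_coe_set_eq, Nat.card_coe_set_eq, Set.ncard_empty, Nat.modEq_zero_iff_dvd,
    ← even_iff_two_dvd] at hmod
  exact hmod

/-- A class of odd size is moved by every nontrivial central translation of order two. -/
theorem eq_one_of_central_shift {w f : G} (hw : Odd (centralizer ({w} : Set G)).index)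
    (hf : f ∈ center G) (hf2 : f * f = 1) (hwf : IsConj w (w * f)) : f = 1 := by
  by_contra hf1
  refine (Nat.not_even_iff_odd.2 hw) ?_
  rw [← ncard_isConj]
  refine even_of_translate hf2 hf1 fun z hz => ?_
  obtain ⟨h, rfl⟩ := isConj_iff.1 (hz : IsConj w z)
  refine hwf.trans (isConj_iff.2 ⟨h, ?_⟩)
  calc h * (w * f) * h⁻¹ = h * w * (f * h⁻¹) := by group
    _ = h * w * h⁻¹ * f := by rw [← Subgroup.mem_center_iff.1 hf h⁻¹]; group

/-- Every involution of an image lifts, for a kernel of odd order. -/
theorem exists_invol_lift {H : Type u} [Group H] (f : G →* H) (hf : Function.Surjective f)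
    (hker : Odd (Nat.card f.ker)) {w : H} (hw : orderOf w = 2) :
    ∃ u : G, orderOf u = 2 ∧ f u = w := by
  obtain ⟨g, rfl⟩ := hf w
  have hmem : g * g ∈ f.ker := by rw [MonoidHom.mem_ker, map_mul]; exact
    (by have := pow_orderOf_eq_one (f g); rwa [hw, pow_two] at this)
  have hpow : (g * g) ^ Nat.card f.ker = 1 :=
    (SubmonoidClass.coe_pow (⟨_, hmem⟩ : f.ker) _).symm.trans
      (congrArg Subtype.val pow_card_eq_one')
  obtain ⟨l, hl⟩ := id hker
  have hu : f (g ^ Nat.card f.ker) = f g := by
    rw [map_pow, pow_eq_pow_mod _ (pow_orderOf_eq_one (f g)), hw, hl,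
      show (2 * l + 1) % 2 = 1 by omega, pow_one]
  refine ⟨g ^ Nat.card f.ker, invol_of_mul_self ?_ fun h => ?_, hu⟩
  · rw [← (Commute.refl g).mul_pow, hpow]
  · rw [h, map_one] at hu
    rw [← hu, orderOf_one] at hw
    exact absurd hw (by decide)

end CfsgLib.RealGraph
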