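import Cfsg.Agent.RealGraph.BlockCount
import Cfsg.Agent.Frobenius.Fpf

/-!
An element of odd order inverted by an involution has a centralizer of odd order.
-/

set_option autoImplicit false
set_option linter.unusedSectionVars false
set_option linter.style.haveILetI false

namespace CfsgLib.RealGraph

open Subgroup

universe u v

variable {G : Type u} [Group G] [Finite G] {D : Type v} [Group D] [Finite D] [Nontrivial D]
  [MulDistribMulAction G D]

/-- An element of odd order inverted by an involution. -/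
def IsSR (x : G) : Prop :=
  x ≠ 1 ∧ Odd (orderOf x) ∧ ∃ s : G, orderOf s = 2 ∧ s * x * s⁻¹ = x⁻¹

theorem IsSR.isConj {x : G} (h : IsSR x) : IsConj x x⁻¹ :=
  isConj_iff.2 ⟨h.2.2.choose, h.2.2.choose_spec.2⟩

/-- The four group generated by two commuting involutions. -/
theorem exists_four {a b : G} (ha : orderOf a = 2) (hb : orderOf b = 2) (hab : a ≠ b)
    (hc : Commute a b) :
    ∃ E : Subgroup G, Cfsg.IsElementaryAbelian 2 E ∧ Nat.card E = 2 ^ 2 ∧ a ∈ E ∧ b ∈ E ∧
      E = closure ({a, b} : Set G) := by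
  have hcomm : ∀ x ∈ closure ({a, b} : Set G), ∀ y ∈ closure ({a, b} : Set G), x * y = y * x := by
    have h1 : closure ({a, b} : Set G) ≤ centralizer ({a, b} : Set G) := by
      rw [closure_le]
      rintro c hc'
      refine mem_centralizer_iff.2 fun d hd => ?_
      rcases hc' with rfl | hc' <;> rcases hd with rfl | hd
      · rfl
      · rw [Set.mem_singleton_iff.1 hd]; exact hc.symm.eq
      · rw [Set.mem_singleton_iff.1 hc']; exact hc.eq
      · rw [Set.mem_singleton_iff.1 hc', Set.mem_singleton_iff.1 hd]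
    intro x hx y hy
    have h2 := h1 hy
    rw [← centralizer_closure] at h2
    exact mem_centralizer_iff.1 h2 x hx
  have hexp : ∀ x ∈ closure ({a, b} : Set G), x ^ 2 = 1 := by
    intro x hx
    induction hx using closure_induction with
    | mem c hc' =>
      rcases hc' with rfl | hc'
      · rw [← ha, pow_orderOf_eq_one]
      · rw [Set.mem_singleton_iff.1 hc', ← hb, pow_orderOf_eq_one]
    | one => exact one_pow 2
    | mul x y hx hy ihx ihy => rw [Commute.mul_pow (hcomm x hx y hy), ihx, ihy, one_mul]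
    | inv x hx ihx => rw [inv_pow, ihx, inv_one]
  refine ⟨_, ⟨⟨⟨fun x y => Subtype.ext (hcomm _ x.2 _ y.2)⟩⟩, hexp⟩, ?_,
    subset_closure (Set.mem_insert _ _), subset_closure (Set.mem_insert_of_mem _ rfl), rfl⟩
  have hn : zpowers a ≤ normalizer (zpowers b : Set G) := zpowers_le.2 (by
    rw [mem_normalizer_iff_map_conj_eq, MonoidHom.map_zpowers]
    show zpowers (a * b * a⁻¹) = zpowers b
    rw [hc.eq, mul_inv_cancel_right])
  have h := Solvable.card_sup_mul_card_inf hn
  have hinf : zpowers a ⊓ zpowers b = ⊥ := by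
    refine (Subgroup.eq_bot_iff_forall _).2 fun x hx => ?_
    obtain ⟨hxa, hxb⟩ := mem_inf.1 hx
    have key : ∀ {t : G}, orderOf t = 2 → ∀ {y : G}, y ∈ zpowers t → y = 1 ∨ y = t := by
      intro t ht y hy
      obtain ⟨i, hi, rfl⟩ : ∃ i, i < 2 ∧ t ^ i = y := by
        obtain ⟨n, rfl⟩ := (mem_powers_iff_mem_zpowers.2 hy : y ∈ Submonoid.powers t)
        exact ⟨n % 2, Nat.mod_lt n two_pos, by rw [← ht, pow_mod_orderOf]⟩
      interval_cases i
      · exact Or.inl (pow_zero t)
      · exact Or.inr (pow_one t)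
    rcases key ha hxa with h1 | h1
    · exact h1
    rcases key hb hxb with h2 | h2
    · exact h2
    exact absurd (h1.symm.trans h2) hab
  rw [hinf, card_bot, mul_one, Nat.card_zpowers, Nat.card_zpowers, ha, hb] at h
  have hsup : closure ({a, b} : Set G) = zpowers a ⊔ zpowers b := by
    rw [zpowers_eq_closure, zpowers_eq_closure, ← Subgroup.closure_union, Set.singleton_union]
  rw [hsup]; exact h.trans (by norm_num)

omit [Finite G] in
theorem commute_conjugate (u : G) {c d : G} (h : Commute c d) :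
    Commute (u * c * u⁻¹) (u * d * u⁻¹) := by
  simpa using h.map (MulAut.conj u).toMonoidHom

variable (hA : RealAct G D)
include hA

theorem syl_eq {v : D} (hv : v ≠ 1) (S : Sylow 2 G) (h : ∀ t ∈ S, t • v = v) : syl hA hv = S :=
  Sylow.ext (S.3 (syl hA hv).2 (le_syl hA hv S.2 h))

/-- No four group normalises the centralizer, of odd order, of an inverted element. -/
theorem no_four {y : G} (hy : IsSR y) (hodd : Odd (Nat.card (centralizer ({y} : Set G))))
    {E : Subgroup G} (hE : Cfsg.IsElementaryAbelian 2 E) (hE2 : Nat.card E = 2 ^ 2)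
    (hEC : E ≤ normalizer ((centralizer ({y} : Set G) : Subgroup G) : Set G)) : False := by
  haveI : Fact (Nat.Prime 2) := ⟨Nat.prime_two⟩
  have hEp : IsPGroup 2 E := IsPGroup.of_card hE2
  obtain ⟨v₀, hv₀, hfix⟩ := exists_fixed hA hEp
  set T₀ := syl hA hv₀ with hT₀
  have hET : E ≤ T₀ := le_syl hA hv₀ hEp hfix
  obtain ⟨e₀, he₀, he1⟩ : ∃ e ∈ E, e ≠ 1 := (bot_or_exists_ne_one _).resolve_left fun h => by
    rw [h, card_bot] at hE2; exact absurd hE2 (by decide)
  refine false_of_block hA hodd hE hE2 hEC (F := {v | v ≠ 1 ∧ ∀ t ∈ T₀, t • v = v})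
    ⟨v₀, hv₀, fun t ht => smul_of_mem_syl hA hv₀ ht⟩ (fun h => h.1 rfl) ?_ ?_ ?_ he₀ he1
    (fun v hv => hv.2 e₀ (hET he₀))
  · intro v hv
    obtain ⟨g, hg⟩ := MulAction.exists_smul_eq G (syl hA hv) T₀
    obtain ⟨c, hc, hcv⟩ := hA.trans y hy.1 hy.2.1 hy.isConj v g
    refine ⟨c, mem_centralizer_singleton_iff.2 hc.eq, smul_ne hA hv c, fun t ht => ?_⟩
    rw [hcv]
    rw [← hg] at ht
    have ht' : g⁻¹ * t * g ∈ syl hA hv := by
      change t ∈ ((g • syl hA hv : Sylow 2 G) : Subgroup G) at ht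
      rw [Sylow.coe_subgroup_smul, Subgroup.mem_pointwise_smul_iff_inv_smul_mem] at ht
      rw [← SetLike.mem_coe] at *
      simpa [MulAut.smul_def, mul_assoc] using ht
    have := smul_of_mem_syl hA hv ht'
    rwa [mul_smul, mul_smul, inv_smul_eq_iff] at this
  · intro o ho v hv hov w hw
    refine ⟨smul_ne hA hw.1 o, fun t ht => ?_⟩
    have h1 : t ∈ syl hA hov.1 := by rw [syl_eq hA hov.1 T₀ hov.2]; exact ht
    have h2 := (mem_syl_smul hA hv.1 o hov.1).1 h1
    rw [syl_eq hA hv.1 T₀ hv.2] at h2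
    have h3 := hw.2 _ h2
    rwa [mul_smul, mul_smul, inv_smul_eq_iff] at h3
  · intro e he v hv
    rw [hv.2 e (hET he)]
    exact hv

/-- Commuting inverted elements of odd order lie in a cyclic group. -/
theorem exists_gen {x g s : G} (hs : orderOf s = 2) (hx1 : x ≠ 1) (hx : Odd (orderOf x))
    (hg : Odd (orderOf g)) (hc : Commute x g) (hsx : s * x * s⁻¹ = x⁻¹)
    (hsg : s * g * s⁻¹ = g⁻¹) :
    ∃ y : G, IsSR y ∧ s * y * s⁻¹ = y⁻¹ ∧
      centralizer ({y} : Set G) = centralizer ({x} : Set G) ⊓ centralizer ({g} : Set G) := by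
  set A := closure ({x, g} : Set G) with hAdef
  have hcomm : ∀ a ∈ A, ∀ b ∈ A, a * b = b * a := by
    have h1 : A ≤ centralizer ({x, g} : Set G) := by
      rw [hAdef, closure_le]
      rintro c hc'
      refine mem_centralizer_iff.2 fun d hd => ?_
      rcases hc' with rfl | hc' <;> rcases hd with rfl | hd
      · rfl
      · rw [Set.mem_singleton_iff.1 hd]; exact hc.symm.eq
      · rw [Set.mem_singleton_iff.1 hc']; exact hc.eq
      · rw [Set.mem_singleton_iff.1 hc', Set.mem_singleton_iff.1 hd]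
    intro a ha b hb
    have h2 := h1 hb
    rw [← centralizer_closure] at h2
    exact mem_centralizer_iff.1 h2 a ha
  have hprop : ∀ a ∈ A, Odd (orderOf a) ∧ s * a * s⁻¹ = a⁻¹ := by
    intro a ha
    induction ha using closure_induction with
    | mem c hc' =>
      rcases hc' with rfl | hc'
      · exact ⟨hx, hsx⟩
      · rw [Set.mem_singleton_iff.1 hc']; exact ⟨hg, hsg⟩
    | one => simp
    | mul a b ha hb iha ihb =>
      refine ⟨(iha.1.mul ihb.1).of_dvd_nat
        (Commute.orderOf_mul_dvd_mul_orderOf (hcomm a ha b hb)), ?_⟩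
      rw [← conj_mul, iha.2, ihb.2, hcomm a ha b hb, mul_inv_rev]
    | inv a ha iha =>
      refine ⟨by rw [orderOf_inv]; exact iha.1, ?_⟩
      rw [← conj_inv, iha.2]
  have hfpf : Frobenius.IsFpf ((MulDistribMulAction.toMulAut G D).comp A.subtype) := by
    intro a ha v hv
    exact hA.free (a : G) (fun h => ha (Subtype.ext h)) (hprop a a.2).1
      (isConj_iff.2 ⟨s, (hprop a a.2).2⟩) v hv
  haveI := hfpf.isCyclic_of_comm fun a b => Subtype.ext (hcomm _ a.2 _ b.2)
  obtain ⟨⟨y, hy⟩, hgen⟩ := IsCyclic.exists_generator (α := A)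
  have hpow : ∀ a ∈ A, a ∈ zpowers y := fun a ha => by
    obtain ⟨n, hn⟩ := mem_zpowers_iff.1 (hgen ⟨a, ha⟩)
    exact mem_zpowers_iff.2 ⟨n, by simpa using congrArg Subtype.val hn⟩
  have hxy : x ∈ zpowers y := hpow x (subset_closure (Set.mem_insert _ _))
  have hgy : g ∈ zpowers y := hpow g (subset_closure (Set.mem_insert_of_mem _ rfl))
  refine ⟨y, ⟨?_, (hprop y hy).1, s, hs, (hprop y hy).2⟩, (hprop y hy).2, le_antisymm ?_ ?_⟩
  · rintro rfl
    rw [zpowers_one_eq_bot, mem_bot] at hxy
    exact hx1 hxy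
  · intro c hc'
    have hcy : Commute c y := mem_centralizer_singleton_iff.1 hc'
    constructor
    · obtain ⟨n, rfl⟩ := mem_zpowers_iff.1 hxy
      exact mem_centralizer_singleton_iff.2 (hcy.zpow_right n).eq
    · obtain ⟨n, rfl⟩ := mem_zpowers_iff.1 hgy
      exact mem_centralizer_singleton_iff.2 (hcy.zpow_right n).eq
  · rintro c ⟨h1, h2⟩
    have : A ≤ centralizer ({c} : Set G) := by
      rw [hAdef, closure_le]
      rintro d (rfl | hd)
      · exact mem_centralizer_singleton_iff.2 (mem_centralizer_singleton_iff.1 h1).symm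
      · rw [Set.mem_singleton_iff] at hd; subst hd
        exact mem_centralizer_singleton_iff.2 (mem_centralizer_singleton_iff.1 h2).symm
    exact mem_centralizer_singleton_iff.2 (mem_centralizer_singleton_iff.1 (this hy)).symm

/-- The core of the minimality argument. -/
theorem odd_centralizer {x : G} (hx : IsSR x) : Odd (Nat.card (centralizer ({x} : Set G))) := by
  haveI : Fact (Nat.Prime 2) := ⟨Nat.prime_two⟩
  obtain ⟨n, hn⟩ : ∃ n, Nat.card (centralizer ({x} : Set G)) = n := ⟨_, rfl⟩
  induction n using Nat.strong_induction_on generalizing x with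
  | _ n ih =>
  subst hn
  by_contra hKodd
  rw [Nat.not_odd_iff_even] at hKodd
  set K := centralizer ({x} : Set G) with hK
  have hsmall : ∀ y : G, IsSR y → centralizer ({y} : Set G) ≤ K →
      (∃ k ∈ K, k ∉ centralizer ({y} : Set G)) → Odd (Nat.card (centralizer ({y} : Set G))) := by
    intro y hy hle ⟨k, hk, hk'⟩
    exact ih _ (Solvable.card_lt_of_lt (lt_of_le_of_ne hle fun h => hk' (h ▸ hk))) hy rfl
  obtain ⟨hx1, hxo, s, hs, hsx⟩ := hx
  have hnotK : ∀ {t : G}, t * x * t⁻¹ = x⁻¹ → t ∉ K := fun {t} h ht =>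
    hx1 (eq_one_of_invert_commute hxo h (mem_centralizer_singleton_iff.1 ht))
  have hsq : ∀ {h : G}, h * x * h⁻¹ = x⁻¹ → Commute (h * h) x := by
    intro h hhx
    rw [Commute, SemiconjBy]
    calc h * h * x = h * (h * x * h⁻¹) * h := by group
      _ = h * x⁻¹ * h := by rw [hhx]
      _ = (h * x * h⁻¹)⁻¹ * h * h := by group
      _ = x * (h * h) := by rw [hhx, inv_inv, mul_assoc]
  have hevenK : ∀ {h : G}, h * x * h⁻¹ = x⁻¹ → ∀ {i : ℕ}, Even i → h ^ i ∈ K := by
    intro h hhx i ⟨k, hk⟩
    rw [hk, ← two_mul, pow_mul, pow_two]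
    exact mem_centralizer_singleton_iff.2 ((hsq hhx).pow_left k).eq
  -- products of an inverting involution and a centralizing involution
  have hA1 : ∀ t z : G, orderOf t = 2 → t * x * t⁻¹ = x⁻¹ → orderOf z = 2 → z ∈ K →
      ∃ j : ℕ, orderOf (t * z) = 2 ^ j := by
    intro t z ht htx hz hzK
    by_contra hcon
    push Not at hcon
    set h := t * z with hh
    have hzx : z * x = x * z := mem_centralizer_singleton_iff.1 hzK
    have hhx : h * x * h⁻¹ = x⁻¹ := by
      calc h * x * h⁻¹ = t * (z * x * z⁻¹) * t⁻¹ := by rw [hh]; group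
        _ = x⁻¹ := by rw [hzx, mul_inv_cancel_right, htx]
    have hh2 := hsq hhx
    have heven : ∀ i : ℕ, Even i → h ^ i ∈ K := fun i => hevenK hhx
    have hne : Even (orderOf h) := by
      by_contra hodd
      rw [Nat.not_even_iff_odd] at hodd
      obtain ⟨l, hl⟩ := hodd
      refine hnotK hhx ?_
      have := heven (orderOf h + 1) ⟨l + 1, by omega⟩
      rwa [pow_succ, pow_orderOf_eq_one, one_mul] at this
    obtain ⟨a, hga, hg1, ha⟩ := exists_odd_part hcon
    have ha1 := ha hne
    set g := h ^ (2 ^ a) with hg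
    have hgK : g ∈ K := heven _ ((Nat.even_pow).2 ⟨even_two, by omega⟩)
    obtain ⟨hth, hzh⟩ := invert_mul_invol ht hz
    have htg : t * g * t⁻¹ = g⁻¹ := by rw [hg, ← conj_pow, ← hh] at *; rw [hth, inv_pow]
    have hzg : z * g * z⁻¹ = g⁻¹ := by rw [hg, ← conj_pow, ← hh] at *; rw [hzh, inv_pow]
    obtain ⟨y, hy, hty, hCy⟩ :=
      exists_gen hA ht hx1 hxo hga (mem_centralizer_singleton_iff.1 hgK).symm htx htg
    have hyodd := hsmall y hy (hCy.le.trans inf_le_left) ⟨z, hzK, fun hzy => by
      rw [hCy] at hzy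
      exact hg1 (eq_one_of_invert_commute hga hzg (mem_centralizer_singleton_iff.1 hzy.2))⟩
    set w := h ^ (orderOf h / 2) with hw
    have hwo : orderOf w = 2 := by
      have h2 : orderOf h / 2 ∣ orderOf h :=
        Nat.div_dvd_of_dvd (even_iff_two_dvd.1 hne)
      have hp : 0 < orderOf h / 2 :=
        Nat.div_pos (Nat.le_of_dvd (orderOf_pos h) (even_iff_two_dvd.1 hne)) two_pos
      rw [hw, orderOf_pow' h hp.ne', Nat.gcd_eq_right h2,
        Nat.div_div_self (even_iff_two_dvd.1 hne) (orderOf_pos h).ne']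
    have hwh : Commute w h := (Commute.refl h).pow_left _
    have htw : Commute t w := by
      have e : t * w * t⁻¹ = w⁻¹ := by rw [hw, ← conj_pow, hth, inv_pow]
      rw [inv_of_invol hwo] at e
      rw [Commute, SemiconjBy]
      calc t * w = t * w * t⁻¹ * t := by group
        _ = w * t := by rw [e]
    have hwg : Commute w g := (Commute.refl h).pow_pow _ _
    have hwK : w ∉ K := by
      intro hwK
      have hwy : w ∈ centralizer ({y} : Set G) := by
        rw [hCy]; exact ⟨hwK, mem_centralizer_singleton_iff.2 hwg.eq⟩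
      have := Subgroup.orderOf_dvd_natCard _ hwy
      rw [hwo] at this
      exact (Nat.not_even_iff_odd.2 hyodd) (even_iff_two_dvd.2 this)
    have hwx : w * x * w⁻¹ = x⁻¹ := by
      rcases Nat.even_or_odd (orderOf h / 2) with he | ⟨l, hl⟩
      · exact absurd (heven _ he) hwK
      · have h2 : Commute (h ^ (2 * l)) x := by
          rw [pow_mul, pow_two]; exact hh2.pow_left l
        calc w * x * w⁻¹ = h * (h ^ (2 * l) * x * (h ^ (2 * l))⁻¹) * h⁻¹ := by
              rw [hw, hl, pow_succ']; group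
          _ = x⁻¹ := by rw [h2.eq, mul_inv_cancel_right, hhx]
    have htne : t ≠ w := by
      intro e
      have h1 : h = h⁻¹ := by
        rw [← hth, ← hh, e, hwh.eq, mul_inv_cancel_right]
      apply hg1
      have h2 : h ^ 2 = 1 := by rw [pow_two]; nth_rw 2 [h1]; rw [mul_inv_cancel]
      rw [hg, show a = (a - 1) + 1 by omega, pow_succ', pow_mul, h2, one_pow]
    obtain ⟨E, hE, hE2, -, -, hEc⟩ := exists_four ht hwo htne htw
    refine no_four hA hy hyodd hE hE2 ?_
    have key : ∀ u : G, u * u = 1 → u * x * u⁻¹ = x⁻¹ → (u * g * u⁻¹ = g⁻¹ ∨ Commute u g) →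
        u ∈ normalizer ((centralizer ({y} : Set G) : Subgroup G) : Set G) := by
      intro u hu hux hug
      have hmem : ∀ c ∈ centralizer ({y} : Set G), u * c * u⁻¹ ∈ centralizer ({y} : Set G) := by
        intro c hc
        rw [hCy] at hc ⊢
        have hcx : Commute c x := mem_centralizer_singleton_iff.1 hc.1
        have hcg : Commute c g := mem_centralizer_singleton_iff.1 hc.2
        refine ⟨mem_centralizer_singleton_iff.2 ?_, mem_centralizer_singleton_iff.2 ?_⟩
        · have e1 := commute_conjugate u hcx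
          rw [hux] at e1
          have e2 := e1.inv_right
          rw [inv_inv] at e2
          exact e2.eq
        · rcases hug with hug | hug
          · have e1 := commute_conjugate u hcg
            rw [hug] at e1
            have e2 := e1.inv_right
            rw [inv_inv] at e2
            exact e2.eq
          · have e1 := commute_conjugate u hcg
            rw [hug.eq, mul_inv_cancel_right] at e1
            exact e1.eq
      exact mem_normalizer_iff.2 fun c => ⟨hmem c, fun hc => by
        have h2 := hmem _ hc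
        rw [inv_eq_of_mul_eq_one_right hu] at h2
        have e : c = u * (u * c * u) * u := by
          calc c = (u * u) * c * (u * u) := by rw [hu, one_mul, mul_one]
            _ = _ := by group
        rw [e]
        exact h2⟩
    rw [hEc, closure_le]
    rintro u (rfl | hu)
    · exact key _ (mul_self_of_invol ht) htx (Or.inl htg)
    · rw [Set.mem_singleton_iff.1 hu]
      exact key _ (mul_self_of_invol hwo) hwx (Or.inr hwg)
  -- an involution of `K` commuting with `s`
  have hsK : s ∉ K := hnotK hsx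
  obtain ⟨z₀, hz₀, hz₀K, hsz₀⟩ : ∃ z : G, orderOf z = 2 ∧ z ∈ K ∧ Commute s z := by
    obtain ⟨z, hz⟩ := exists_prime_orderOf_dvd_card' 2 (even_iff_two_dvd.1 hKodd)
    have hzo : orderOf (z : G) = 2 := by rw [Subgroup.orderOf_coe, hz]
    obtain ⟨j, hj⟩ := hA1 s z hs hsx hzo z.2
    have hinv := (invert_mul_invol hs hzo).1
    rcases j with _ | _ | j
    · rw [pow_zero, orderOf_eq_one_iff] at hj
      exact absurd (by rw [eq_inv_of_mul_eq_one_left hj, inv_of_invol hzo]; exact z.2) hsK
    · refine ⟨z, hzo, z.2, ?_⟩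
      have h1 : (s * z : G)⁻¹ = s * z := inv_of_invol (by rw [hj]; norm_num)
      rw [mul_inv_rev, inv_of_invol hs, inv_of_invol hzo] at h1
      exact h1.symm
    · set h := s * (z : G) with hh
      have hhx : h * x * h⁻¹ = x⁻¹ := by
        calc h * x * h⁻¹ = s * ((z : G) * x * (z : G)⁻¹) * s⁻¹ := by rw [hh]; group
          _ = x⁻¹ := by rw [mem_centralizer_singleton_iff.1 z.2, mul_inv_cancel_right, hsx]
      have hw : orderOf (h ^ (2 ^ (j + 1))) = 2 := by
        rw [orderOf_pow' h (pow_ne_zero _ two_ne_zero), hj,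
          Nat.gcd_eq_right (pow_dvd_pow 2 (Nat.le_succ _)),
          Nat.pow_div (Nat.le_succ _) two_pos,
          show j + 1 + 1 - (j + 1) = 1 by omega, pow_one]
      refine ⟨_, hw, hevenK hhx ((Nat.even_pow).2 ⟨even_two, Nat.succ_ne_zero _⟩), ?_⟩
      have e : s * h ^ (2 ^ (j + 1)) * s⁻¹ = (h ^ (2 ^ (j + 1)))⁻¹ := by
        rw [← conj_pow, hinv, inv_pow]
      rw [inv_of_invol hw] at e
      rw [Commute, SemiconjBy]
      calc s * h ^ (2 ^ (j + 1)) = s * h ^ (2 ^ (j + 1)) * s⁻¹ * s := by group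
        _ = _ := by rw [e]
  have hz₀x : Commute z₀ x := mem_centralizer_singleton_iff.1 hz₀K
  by_cases hI : ∃ g : G, g ∈ K ∧ Odd (orderOf g) ∧ s * g * s⁻¹ = g⁻¹ ∧ ∃ k ∈ K, ¬ Commute k g
  · obtain ⟨g, hgK, hgo, hsg, k, hkK, hkg⟩ := hI
    obtain ⟨y, hy, hsy, hCy⟩ :=
      exists_gen hA hs hx1 hxo hgo (mem_centralizer_singleton_iff.1 hgK).symm hsx hsg
    have hyodd := hsmall y hy (hCy.le.trans inf_le_left) ⟨k, hkK, fun h => by
      rw [hCy] at h
      exact hkg (mem_centralizer_singleton_iff.1 h.2)⟩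
    set H := K ⊓ centralizer ({s} : Set G) with hH
    set Q := (Cfsg.pCore 2 H).map H.subtype with hQ
    have hz₀H : z₀ ∈ H := ⟨hz₀K, mem_centralizer_singleton_iff.2 hsz₀.symm.eq⟩
    have hz₀Q : z₀ ∈ Q := by
      refine ⟨⟨z₀, hz₀H⟩, ?_, rfl⟩
      by_contra hout
      obtain ⟨⟨g', hg'H⟩, hg'1, hg'o, hg'i⟩ :=
        Invol.exists_inverted_odd (⟨z₀, hz₀H⟩ : H) (by rw [← Subgroup.orderOf_coe]; exact hz₀) hout
      rw [← Subgroup.orderOf_coe] at hg'o
      have hg'i' : z₀ * g' * z₀⁻¹ = g'⁻¹ := by simpa using congrArg Subtype.val hg'i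
      have hsg' : Commute s g' := (mem_centralizer_singleton_iff.1 hg'H.2).symm
      have htx : s * z₀ * x * (s * z₀)⁻¹ = x⁻¹ := by
        calc s * z₀ * x * (s * z₀)⁻¹ = s * (z₀ * x * z₀⁻¹) * s⁻¹ := by group
          _ = x⁻¹ := by rw [hz₀x.eq, mul_inv_cancel_right, hsx]
      have hto : orderOf (s * z₀) = 2 := by
        apply invol_of_mul_self
        · calc s * z₀ * (s * z₀) = s * (z₀ * s) * z₀ := by group
            _ = (s * s) * (z₀ * z₀) := by rw [← hsz₀.eq]; group
            _ = 1 := by rw [mul_self_of_invol hs, mul_self_of_invol hz₀, one_mul]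
        · intro e
          rw [eq_inv_of_mul_eq_one_left e, inv_of_invol hz₀] at hsK
          exact hsK hz₀K
      obtain ⟨j, hj⟩ := hA1 (s * z₀) (z₀ * g') hto htx (invol_mul_inverted hz₀ hg'o hg'i')
        (mul_mem hz₀K hg'H.1)
      rw [show s * z₀ * (z₀ * g') = s * g' by
        rw [mul_assoc, ← mul_assoc z₀ z₀ g', mul_self_of_invol hz₀, one_mul]] at hj
      have hp : (s * g') ^ (2 ^ (j + 1)) = 1 := by
        rw [pow_succ, pow_mul, ← hj, pow_orderOf_eq_one, one_pow]
      rw [hsg'.mul_pow, pow_succ' 2 j, pow_mul, pow_two s, mul_self_of_invol hs, one_pow,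
        one_mul, ← pow_succ'] at hp
      refine hg'1 (Subtype.ext (orderOf_eq_one_iff.1 (Nat.eq_one_of_dvd_coprimes
        (((Nat.coprime_two_left).2 hg'o).pow_left (j + 1)) (orderOf_dvd_of_pow_eq_one hp) dvd_rfl)))
    have hQp : IsPGroup 2 Q := (CfsgLib.Solvable.isPGroup_pCore 2).map _
    have hQH : Q ≤ H := map_subtype_le _
    have hsQ : zpowers s ≤ normalizer (Q : Set G) := zpowers_le.2 (mem_normalizer_iff.2 fun c => by
      constructor
      · intro hc
        rw [← mem_centralizer_singleton_iff.1 (hQH hc).2, mul_inv_cancel_right]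
        exact hc
      · intro hc
        have := mem_centralizer_singleton_iff.1 (hQH hc).2
        have hcs : c * s = s * c := by
          calc c * s = s⁻¹ * ((s * c * s⁻¹) * s) * s := by group
            _ = s⁻¹ * (s * (s * c * s⁻¹)) * s := by rw [this]
            _ = s * c := by group
        rw [← hcs, mul_inv_cancel_right] at hc
        exact hc)
    obtain ⟨v₀, hv₀, hfix⟩ := exists_fixed hA
      ((isPGroup_zpowers (j := 1) (by rw [hs, pow_one])).to_sup_of_normal_right' hQp hsQ)
    have hsv₀ : s • v₀ = v₀ := hfix s (mem_sup_left (mem_zpowers s))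
    have hQv₀ : ∀ q ∈ Q, q • v₀ = v₀ := fun q hq => hfix q (mem_sup_right hq)
    have hle : fix D s ≤ fix D z₀ := by
      intro v hsv
      by_cases hv : v = 1
      · rw [hv]; exact one_mem _
      obtain ⟨g₁, hg₁⟩ := MulAction.exists_smul_eq G (syl hA hv₀) (syl hA hv)
      obtain ⟨c, hcy, hcv⟩ := hA.trans y hy.1 hy.2.1 hy.isConj v₀ g₁
      have hne := smul_ne hA hv₀ g₁
      have hsyl : syl hA hne = syl hA hv := by
        refine syl_eq hA hne _ fun t ht => ?_
        rw [← hg₁] at ht
        have ht' : g₁⁻¹ * t * g₁ ∈ syl hA hv₀ := by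
          change t ∈ ((g₁ • syl hA hv₀ : Sylow 2 G) : Subgroup G) at ht
          rw [Sylow.coe_subgroup_smul, Subgroup.mem_pointwise_smul_iff_inv_smul_mem] at ht
          rw [← SetLike.mem_coe] at *
          simpa [MulAut.smul_def, mul_assoc] using ht
        have := smul_of_mem_syl hA hv₀ ht'
        rwa [mul_smul, mul_smul, inv_smul_eq_iff] at this
      have hscv : s • c • v₀ = c • v₀ := by
        rw [hcv]
        exact smul_of_mem_syl hA hne (hsyl ▸ invol_mem_syl hA hv hs hsv)
      set x' := c⁻¹ * (s * c * s⁻¹) with hx'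
      have hsCy : s * c * s⁻¹ ∈ centralizer ({y} : Set G) := by
        have e1 := commute_conjugate s hcy
        rw [hsy] at e1
        have e2 := e1.inv_right
        rw [inv_inv] at e2
        exact mem_centralizer_singleton_iff.2 e2.eq
      have hcC : c ∈ centralizer ({y} : Set G) := mem_centralizer_singleton_iff.2 hcy.eq
      have hx'C : x' ∈ centralizer ({y} : Set G) := mul_mem (inv_mem hcC) hsCy
      have hx'v : x' • v₀ = v₀ := by
        rw [hx', mul_smul, mul_smul, mul_smul, inv_smul_eq_iff.2 hsv₀.symm, hscv, inv_smul_smul]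
      have hx'i : s * x' * s⁻¹ = x'⁻¹ := by
        rw [hx', inv_of_invol hs]
        calc s * (c⁻¹ * (s * c * s)) * s = s * c⁻¹ * s * c * (s * s) := by group
          _ = (c⁻¹ * (s * c * s))⁻¹ := by
            rw [mul_self_of_invol hs]
            simp [mul_assoc, inv_of_invol hs]
      obtain ⟨r, hr, hr2, hsr⟩ := exists_half (odd_orderOf_of_mem hyodd hx'C) hx'i
      have hrv : r • v₀ = v₀ := by
        obtain ⟨i, rfl⟩ := mem_zpowers_iff.1 hr
        exact fixed_of_closure (fun a ha => by rw [Set.mem_singleton_iff.1 ha]; exact hx'v)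
          ((zpowers_eq_closure x') ▸ zpow_mem (mem_zpowers x') i)
      have hcrK : c * r ∈ H := by
        refine ⟨?_, mem_centralizer_singleton_iff.2 ?_⟩
        · have := mul_mem hcC ((zpowers_le.2 hx'C) hr)
          rw [hCy] at this
          exact this.1
        · refine Eq.symm ?_
          calc s * (c * r) = (s * c * s⁻¹) * (s * r * s⁻¹) * s := by group
            _ = c * (r * r) * r⁻¹ * s := by rw [hsr, hr2, hx']; group
            _ = c * r * s := by group
      have hq : (c * r)⁻¹ * z₀ * (c * r) ∈ Q := by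
        obtain ⟨⟨z', hz'⟩, hz'Q, hz'e⟩ := hz₀Q
        refine ⟨⟨c * r, hcrK⟩⁻¹ * ⟨z', hz'⟩ * ⟨c * r, hcrK⟩, ?_, ?_⟩
        · have := (CfsgLib.Solvable.pCore_normal (G := H) 2).conj_mem _ hz'Q (⟨c * r, hcrK⟩ : H)⁻¹
          rwa [inv_inv] at this
        · simp at hz'e ⊢
          rw [hz'e]
      have h1 := hQv₀ _ hq
      rw [mul_smul, mul_smul, inv_smul_eq_iff, mul_smul, hrv, hcv] at h1
      exact smul_of_mem_syl hA hv (hsyl ▸ invol_mem_syl hA hne hz₀ h1)
    have heq := fix_eq_of_le hA hs hz₀ hle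
    have ht2 := invol_mul_inverted hs hxo hsx
    have htx : s * x * x * (s * x)⁻¹ = x⁻¹ := by
      calc s * x * x * (s * x)⁻¹ = s * x * s⁻¹ := by group
        _ = x⁻¹ := hsx
    obtain ⟨j, hj⟩ := hA1 (s * x) z₀ ht2 htx hz₀ hz₀K
    obtain ⟨v, hv, hvfix⟩ :=
      exists_fixed hA (isPGroup_dihedral ht2 hj (invert_mul_invol ht2 hz₀).1)
    have hz₀v : v ∈ fix D z₀ := by
      refine hvfix z₀ ?_
      have := mul_mem (inv_mem (mem_sup_left (mem_zpowers (s * x)) :
        s * x ∈ zpowers (s * x) ⊔ zpowers (s * x * z₀)))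
        (mem_sup_right (mem_zpowers (s * x * z₀)) : s * x * z₀ ∈ zpowers (s * x) ⊔ zpowers (s * x * z₀))
      rwa [inv_mul_cancel_left] at this
    rw [← heq] at hz₀v
    exact hv (disjoint_fix hA hx1 hxo hsx hz₀v (hvfix (s * x) (mem_sup_left (mem_zpowers _))))
  · push Not at hI
    let L : Subgroup G :=
      { carrier := {h | h * x * h⁻¹ = x ∨ h * x * h⁻¹ = x⁻¹}
        one_mem' := Or.inl (by simp)
        mul_mem' := fun {a b} ha hb => by
          have e : a * b * x * (a * b)⁻¹ = a * (b * x * b⁻¹) * a⁻¹ := by group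
          show a * b * x * (a * b)⁻¹ = x ∨ a * b * x * (a * b)⁻¹ = x⁻¹
          rw [e]
          rcases hb with hb | hb <;> rw [hb]
          · exact ha
          · rcases ha with ha | ha <;> [right; left] <;> rw [← conj_inv, ha]
            exact inv_inv x
        inv_mem' := fun {a} ha => by
          show a⁻¹ * x * a⁻¹⁻¹ = x ∨ a⁻¹ * x * a⁻¹⁻¹ = x⁻¹
          rcases ha with ha | ha
          · left; nth_rw 1 [← ha]; group
          · right
            calc a⁻¹ * x * a⁻¹⁻¹ = a⁻¹ * (a * x * a⁻¹)⁻¹ * a := by rw [ha, inv_inv, inv_inv]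
              _ = x⁻¹ := by group }
    let Z : Subgroup G :=
      { carrier := {g | g ∈ K ∧ Odd (orderOf g) ∧ s * g * s⁻¹ = g⁻¹}
        one_mem' := ⟨one_mem K, by simp, by simp⟩
        mul_mem' := fun {a b} ha hb => by
          have hc : Commute a b := hI b hb.1 hb.2.1 hb.2.2 a ha.1
          refine ⟨mul_mem ha.1 hb.1, (ha.2.1.mul hb.2.1).of_dvd_nat hc.orderOf_mul_dvd_mul_orderOf,
            ?_⟩
          rw [← conj_mul, ha.2.2, hb.2.2, hc.eq, mul_inv_rev]
        inv_mem' := fun {a} ha =>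
          ⟨inv_mem ha.1, by rw [orderOf_inv]; exact ha.2.1, by rw [← conj_inv, ha.2.2]⟩ }
    have hKL : ∀ {k : G}, k ∈ K → k ∈ L := fun hk =>
      Or.inl (by rw [mem_centralizer_singleton_iff.1 hk, mul_inv_cancel_right])
    have hsL : s ∈ L := Or.inr hsx
    have hZL : Z ≤ L := fun g hg => hKL hg.1
    have hdich : ∀ h ∈ L, h ∈ K ∨ h * x * h⁻¹ = x⁻¹ := by
      rintro h (hh | hh)
      · left
        exact mem_centralizer_singleton_iff.2 (by
          calc h * x = h * x * h⁻¹ * h := by group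
            _ = x * h := by rw [hh])
      · exact Or.inr hh
    have hinvZ : ∀ h ∈ L, ∀ g ∈ Z, h * g * h⁻¹ = g ∨ h * g * h⁻¹ = g⁻¹ := by
      intro h hh g hg
      have hk : ∀ k ∈ K, k * g * k⁻¹ = g := fun k hk => by
        rw [(hI g hg.1 hg.2.1 hg.2.2 k hk).eq, mul_inv_cancel_right]
      rcases hdich h hh with hh' | hh'
      · exact Or.inl (hk h hh')
      · right
        have hk' : h * s ∈ K := mem_centralizer_singleton_iff.2 (by
          calc h * s * x = h * (s * x * s⁻¹) * s := by group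
            _ = (h * x * h⁻¹)⁻¹ * (h * s) := by rw [hsx]; group
            _ = x * (h * s) := by rw [hh', inv_inv])
        calc h * g * h⁻¹ = (h * s) * (s * g * s⁻¹) * (h * s)⁻¹ := by
              rw [inv_of_invol hs]
              simp [mul_assoc, inv_of_invol hs]
              simp [← mul_assoc, mul_self_of_invol hs]
          _ = g⁻¹ := by rw [hg.2.2, ← conj_inv, hk _ hk']
    haveI hZn : (Z.subgroupOf L).Normal := ⟨fun a ha h => by
      rw [mem_subgroupOf] at ha ⊢
      rcases hinvZ h h.2 a ha with e | e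
      · simpa [e] using ha
      · simp only [Subgroup.coe_mul, InvMemClass.coe_inv, e]
        exact inv_mem ha⟩
    have hZodd : Odd (Nat.card Z) := by
      rw [← Nat.not_even_iff_odd, even_iff_two_dvd]
      intro h2
      obtain ⟨g, hg⟩ := exists_prime_orderOf_dvd_card' 2 h2
      have := g.2.2.1
      rw [Subgroup.orderOf_coe, hg] at this
      exact absurd this (by decide)
    set π := QuotientGroup.mk' (Z.subgroupOf L) with hπ
    set sL : L := ⟨s, hsL⟩ with hsLdef
    have hπs : orderOf (π sL) = 2 := by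
      refine invol_of_mul_self ?_ ?_
      · rw [← map_mul, show sL * sL = 1 from Subtype.ext (mul_self_of_invol hs), map_one]
      · intro e
        rw [hπ, QuotientGroup.mk'_apply, QuotientGroup.eq_one_iff, mem_subgroupOf] at e
        exact hsK e.1
    have hsO : π sL ∈ Cfsg.pCore 2 (L ⧸ Z.subgroupOf L) := by
      refine Invol.mem_pCore_of_pairs _ fun cq => ?_
      obtain ⟨c, rfl⟩ := QuotientGroup.mk'_surjective (Z.subgroupOf L) cq
      set t : G := (c : G) * s * (c : G)⁻¹ with ht
      have hto : orderOf t = 2 := by rw [ht, orderOf_conjugate, hs]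
      have htx : t * x * t⁻¹ = x⁻¹ := by
        rcases c.2 with hc | hc
        · have hc' : (c : G)⁻¹ * x * c = x := by nth_rw 1 [← hc]; group
          calc t * x * t⁻¹ = c * (s * ((c : G)⁻¹ * x * c) * s⁻¹) * (c : G)⁻¹ := by rw [ht]; group
            _ = x⁻¹ := by rw [hc', hsx, ← conj_inv, hc]
        · have hc' : (c : G)⁻¹ * x * c = x⁻¹ := by
            calc (c : G)⁻¹ * x * c = (c : G)⁻¹ * (c * x * (c : G)⁻¹)⁻¹ * c := by rw [hc, inv_inv]
              _ = _ := by group
          calc t * x * t⁻¹ = c * (s * ((c : G)⁻¹ * x * c) * s⁻¹) * (c : G)⁻¹ := by rw [ht]; group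
            _ = x⁻¹ := by rw [hc', ← conj_inv, hsx, inv_inv, hc]
      set h : L := sL * (c * sL * c⁻¹) with hh
      have hhG : (h : G) = s * t := rfl
      have hhinv := (invert_mul_invol hs hto).1
      have hhK : (h : G) ∈ K := by
        rw [hhG, mem_centralizer_singleton_iff]
        calc s * t * x = s * (t * x * t⁻¹) * t := by group
          _ = (s * x * s⁻¹)⁻¹ * (s * t) := by rw [htx]; group
          _ = x * (s * t) := by rw [hsx, inv_inv]
      obtain ⟨k, hk⟩ : ∃ k : ℕ, (π h) ^ (2 ^ k) = 1 := by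
        by_cases hp : ∀ k : ℕ, orderOf (h : G) ≠ 2 ^ k
        · obtain ⟨a, hao, -, -⟩ := exists_odd_part hp
          refine ⟨a, ?_⟩
          rw [← map_pow, hπ, QuotientGroup.mk'_apply, QuotientGroup.eq_one_iff, mem_subgroupOf,
            SubmonoidClass.coe_pow]
          exact ⟨pow_mem hhK _, hao, by rw [← conj_pow, hhG, hhinv, inv_pow]⟩
        · push Not at hp
          obtain ⟨k, hk⟩ := hp
          refine ⟨k, ?_⟩
          rw [← map_pow, show h ^ (2 ^ k) = 1 from Subtype.ext (by
            rw [SubmonoidClass.coe_pow, ← hk, pow_orderOf_eq_one]; rfl), map_one]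
      obtain ⟨j, hj⟩ := orderOf_two_pow_of_pow_eq_one hk
      have hinv : π sL * π h * (π sL)⁻¹ = (π h)⁻¹ := by
        rw [← map_inv, ← map_inv, ← map_mul, ← map_mul]
        exact congrArg π (Subtype.ext hhinv)
      refine (isPGroup_dihedral hπs hj hinv).to_le ((closure_le _).2 ?_)
      rintro a (rfl | ha)
      · exact mem_sup_left (mem_zpowers _)
      · rw [Set.mem_singleton_iff.1 ha]
        have := mul_mem (inv_mem (mem_sup_left (mem_zpowers (π sL)) :
          π sL ∈ zpowers (π sL) ⊔ zpowers (π h)))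
          (mem_sup_right (mem_zpowers (π h)) : π h ∈ zpowers (π sL) ⊔ zpowers (π h))
        rw [hh, map_mul, inv_mul_cancel_left, map_mul, map_mul, map_inv] at this
        exact this
    set Y' := (Cfsg.pCore 2 (L ⧸ Z.subgroupOf L)).comap π with hY'
    haveI : Y'.Normal := by
      haveI := CfsgLib.Solvable.pCore_normal (G := L ⧸ Z.subgroupOf L) 2
      exact Subgroup.Normal.comap inferInstance _
    obtain ⟨a, ha⟩ := IsPGroup.iff_card.1
      (CfsgLib.Solvable.isPGroup_pCore (G := L ⧸ Z.subgroupOf L) 2)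
    have hcardY : Nat.card Y' = Nat.card Z * 2 ^ a := by
      have h1 := Y'.card_mul_index
      rw [hY', index_comap_of_surjective _ (QuotientGroup.mk'_surjective _), ← hY',
        card_eq_card_quotient_mul_card_subgroup (Z.subgroupOf L),
        ← (Cfsg.pCore 2 (L ⧸ Z.subgroupOf L)).card_mul_index, ha,
        Nat.card_congr (subgroupOfEquivOfLe hZL).toEquiv] at h1
      refine Nat.eq_of_mul_eq_mul_right (Nat.pos_of_ne_zero
        (index_ne_zero_of_finite (H := Cfsg.pCore 2 (L ⧸ Z.subgroupOf L)))) ?_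
      rw [h1]; ring
    set Y := Y'.map L.subtype with hY
    have hYL : Y ≤ L := map_subtype_le _
    have hcardY' : Nat.card Y = Nat.card Z * 2 ^ a := by
      rw [hY, card_map_of_injective L.subtype_injective, hcardY]
    have hcop : ∀ i : ℕ, Nat.Coprime (2 ^ i) (Nat.card Z) := fun i =>
      ((Nat.coprime_two_left).2 hZodd).pow_left i
    have hYconj : ∀ n ∈ L, ∀ g : G, n * g * n⁻¹ ∈ Y ↔ g ∈ Y := by
      have key : ∀ n ∈ L, ∀ g ∈ Y, n * g * n⁻¹ ∈ Y := by
        rintro n hn _ ⟨g, hg, rfl⟩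
        exact ⟨⟨n, hn⟩ * g * ⟨n, hn⟩⁻¹, (inferInstance : Y'.Normal).conj_mem g hg _, rfl⟩
      exact fun n hn g => ⟨fun h => by
        have := key n⁻¹ (inv_mem hn) _ h
        simpa [mul_assoc] using this, key n hn g⟩
    have hsY : s ∈ Y := ⟨sL, hsO, rfl⟩
    have hZY : Z ≤ Y := fun g hg => ⟨⟨g, hZL hg⟩, by
      rw [hY', SetLike.mem_coe, mem_comap, hπ, QuotientGroup.mk'_apply, (QuotientGroup.eq_one_iff _).2
        (mem_subgroupOf.2 hg)]
      exact one_mem _, rfl⟩
    have hP : ∀ (v : D) (hv : v ≠ 1),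
        Nat.card ↥(Y ⊓ (syl hA hv : Subgroup G)) = 2 ^ a := by
      intro v hv
      have hp2 : IsPGroup 2 ↥(Y ⊓ (syl hA hv : Subgroup G)) := (syl hA hv).2.to_le inf_le_right
      obtain ⟨i, hi⟩ := IsPGroup.iff_card.1 hp2
      refine le_antisymm (Nat.le_of_dvd (by positivity) ?_) ?_
      · have hd : Nat.card ↥(Y ⊓ (syl hA hv : Subgroup G)) ∣ Nat.card Y :=
          card_dvd_of_le inf_le_left
        rw [hcardY', hi] at hd
        rw [hi]
        exact (hcop i).dvd_of_dvd_mul_left hd
      · -- a point stabiliser of odd index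
        set H := MulAction.stabilizer L v with hHdef
        have hodd : Odd H.index := by
          have horb : MulAction.orbit L v = MulAction.orbit G v := by
            refine Set.Subset.antisymm (fun w ⟨l, hl⟩ => ⟨(l : G), hl⟩) ?_
            rintro _ ⟨g, rfl⟩
            obtain ⟨c, hc, hcv⟩ := hA.trans x hx1 hxo (isConj_iff.2 ⟨s, hsx⟩) v g
            exact ⟨⟨c, hKL (mem_centralizer_singleton_iff.2 hc.eq)⟩, hcv⟩
          rw [hHdef, MulAction.index_stabilizer, horb, ← MulAction.index_stabilizer]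
          have hle : (syl hA hv : Subgroup G) ≤ MulAction.stabilizer G v :=
            fun t ht => smul_of_mem_syl hA hv ht
          refine Odd.of_dvd_nat ?_ (index_dvd_of_le hle)
          rw [← Nat.not_even_iff_odd, even_iff_two_dvd]
          exact (syl hA hv).not_dvd_index
        have h1 := Solvable.card_sup_mul_card_inf (A := H) (K := Y')
          (by rw [normalizer_eq_top]; exact le_top)
        have h2 : Nat.card H * Nat.card Y' ∣ Nat.card H * (H.index * Nat.card ↥(H ⊓ Y')) := by
          rw [← h1, ← mul_assoc, H.card_mul_index]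
          exact Nat.mul_dvd_mul_right (card_subgroup_dvd_card _) _
        have h3 : 2 ^ a ∣ H.index * Nat.card ↥(H ⊓ Y') :=
          (hcardY ▸ dvd_mul_left (2 ^ a) (Nat.card Z) : 2 ^ a ∣ Nat.card Y').trans
            (Nat.dvd_of_mul_dvd_mul_left Nat.card_pos h2)
        have h4 : 2 ^ a ∣ Nat.card ↥(H ⊓ Y') :=
          (((Nat.coprime_two_left).2 hodd).pow_left a).dvd_of_dvd_mul_left h3
        obtain ⟨P, hPc⟩ := Sylow.exists_subgroup_card_pow_prime 2 h4
        set P' := (P.map (H ⊓ Y').subtype).map L.subtype with hP'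
        have hP'c : Nat.card P' = 2 ^ a := by
          rw [hP', card_map_of_injective L.subtype_injective,
            card_map_of_injective (H ⊓ Y').subtype_injective, hPc]
        have hP'le : P' ≤ Y ⊓ (syl hA hv : Subgroup G) := by
          refine le_inf ?_ (le_syl hA hv (IsPGroup.of_card hP'c) ?_)
          · exact map_mono (fun _ ⟨p, _, e⟩ => e ▸ p.2.2)
          · rintro _ ⟨_, ⟨p, -, rfl⟩, rfl⟩
            exact p.2.1
        rw [← hP'c]
        exact Subgroup.card_le_of_le hP'le
    have hequiv : ∀ n ∈ L, ∀ (v : D) (hv : v ≠ 1) (hnv : n • v ≠ 1) (t : G),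
        t ∈ Y ⊓ (syl hA hnv : Subgroup G) ↔ n⁻¹ * t * n ∈ Y ⊓ (syl hA hv : Subgroup G) := by
      intro n hn v hv hnv t
      rw [mem_inf, mem_inf]
      refine and_congr ?_ (mem_syl_smul hA hv n hnv)
      have := hYconj n⁻¹ (inv_mem hn) t
      rw [inv_inv] at this
      exact this.symm
    have hsz : s ≠ z₀ := fun e => hsK (e ▸ hz₀K)
    obtain ⟨E, hE, hE2, hsE, hzE, hEc⟩ := exists_four hs hz₀ hsz hsz₀
    have hEL : E ≤ L := by
      rw [hEc, closure_le]
      rintro u (rfl | hu)
      · exact hsL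
      · rw [Set.mem_singleton_iff.1 hu]; exact hKL hz₀K
    obtain ⟨v₀, hv₀, hfix⟩ := exists_fixed hA (IsPGroup.of_card hE2)
    set P₀ := Y ⊓ (syl hA hv₀ : Subgroup G) with hP₀
    refine false_of_block hA hZodd hE hE2 ?_
      (F := {v | ∃ hv : v ≠ 1, ∀ t : G, t ∈ P₀ ↔ t ∈ Y ⊓ (syl hA hv : Subgroup G)})
      ⟨v₀, hv₀, fun t => Iff.rfl⟩ (fun ⟨h, _⟩ => h rfl) ?_ ?_ ?_ hsE (ne_one_of_invol hs) ?_
    · have key : ∀ e ∈ E, ∀ g ∈ Z, e * g * e⁻¹ ∈ Z := fun e he g hg => by
        rcases hinvZ e (hEL he) g hg with h | h <;> rw [h]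
        · exact hg
        · exact inv_mem hg
      exact fun e he => mem_normalizer_iff.2 fun g => ⟨key e he g, fun h => by
        have := key e⁻¹ (inv_mem he) _ h
        simpa [mul_assoc] using this⟩
    · intro v hv
      have hfac : (Nat.card Y).factorization 2 = a := by
        rw [hcardY', Nat.factorization_mul Nat.card_pos.ne' (by positivity), Finsupp.add_apply,
          Nat.factorization_eq_zero_of_not_dvd, Nat.prime_two.factorization_pow,
          Finsupp.single_eq_same, zero_add]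
        exact fun h => (Nat.not_even_iff_odd.2 hZodd) (even_iff_two_dvd.2 h)
      have hcs : ∀ (w : D) (hw : w ≠ 1),
          Nat.card ↥((Y ⊓ (syl hA hw : Subgroup G)).subgroupOf Y) =
            2 ^ (Nat.card Y).factorization 2 := fun w hw => by
        rw [Nat.card_congr (subgroupOfEquivOfLe inf_le_left).toEquiv, hP w hw, hfac]
      obtain ⟨⟨y, hyY⟩, hyc⟩ := MulAction.exists_smul_eq Y
        (Sylow.ofCard _ (hcs v hv)) (Sylow.ofCard _ (hcs v₀ hv₀))
      set P := Y ⊓ (syl hA hv : Subgroup G) with hPdef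
      have hPn : P ≤ normalizer (Z : Set G) := fun p hp => by
        have key : ∀ q ∈ L, ∀ g ∈ Z, q * g * q⁻¹ ∈ Z := fun q hq g hg => by
          rcases hinvZ q hq g hg with h | h <;> rw [h]
          · exact hg
          · exact inv_mem hg
        exact mem_normalizer_iff.2 fun g => ⟨key p (hYL hp.1) g, fun h => by
          have := key p⁻¹ (inv_mem (hYL hp.1)) _ h
          simpa [mul_assoc] using this⟩
      have hPZ : P ⊔ Z = Y := by
        refine eq_of_le_of_card_ge (sup_le inf_le_left hZY) (le_of_eq ?_)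
        have h1 := Solvable.card_sup_mul_card_inf hPn
        have h2 : Nat.card ↥(P ⊓ Z) = 1 := Nat.eq_one_of_dvd_coprimes (hcop a)
          (hP v hv ▸ card_dvd_of_le inf_le_left) (card_dvd_of_le inf_le_right)
        rw [h2, mul_one, hP v hv] at h1
        rw [h1, hcardY', mul_comm]
      obtain ⟨p, hp, o, ho, hpo⟩ :=
        (Solvable.mem_sup_of_le_normalizer hPn).1 (hPZ.symm ▸ inv_mem hyY : y⁻¹ ∈ P ⊔ Z)
      refine ⟨o⁻¹, inv_mem ho, smul_ne hA hv _, fun t => ?_⟩
      rw [hequiv o⁻¹ (hZL (inv_mem ho)) v hv, inv_inv]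
      have hmem : ∀ t : G, t ∈ P₀ ↔ y⁻¹ * t * y ∈ P := by
        intro t
        constructor
        · intro ht
          have : (⟨t, ht.1⟩ : Y) ∈ ((Sylow.ofCard _ (hcs v₀ hv₀) : Sylow 2 Y) : Subgroup Y) :=
            mem_subgroupOf.2 ht
          rw [← hyc, Sylow.coe_subgroup_smul, Subgroup.mem_pointwise_smul_iff_inv_smul_mem] at this
          have h2 := mem_subgroupOf.1 this
          simpa [hPdef, MulAut.smul_def, mul_assoc] using h2
        · intro ht
          have htY : t ∈ Y := by
            have := mul_mem (mul_mem hyY ht.1) (inv_mem hyY)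
            simpa [mul_assoc] using this
          have : (⟨t, htY⟩ : Y) ∈ ((Sylow.ofCard _ (hcs v₀ hv₀) : Sylow 2 Y) : Subgroup Y) := by
            rw [← hyc, Sylow.coe_subgroup_smul, Subgroup.mem_pointwise_smul_iff_inv_smul_mem]
            refine mem_subgroupOf.2 ?_
            simpa [hPdef, MulAut.smul_def, mul_assoc] using ht
          exact mem_subgroupOf.1 this
      rw [hmem t, show y⁻¹ * t * y = p * (o * t * o⁻¹) * p⁻¹ by
        rw [show y = o⁻¹ * p⁻¹ by rw [← mul_inv_rev, hpo, inv_inv]]; group]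
      constructor
      · intro h
        have := mul_mem (mul_mem (inv_mem hp) h) hp
        simpa [hPdef, mul_assoc] using this
      · exact fun h => mul_mem (mul_mem hp h) (inv_mem hp)
    · rintro o ho v ⟨hv, hvP⟩ ⟨hov, hovP⟩ w ⟨hw, hwP⟩
      refine ⟨smul_ne hA hw o, fun t => ?_⟩
      rw [hovP t, hequiv o (hZL ho) v hv, hequiv o (hZL ho) w hw, ← hvP, hwP]
    · rintro e he w ⟨hw, hwP⟩
      refine ⟨smul_ne hA hw e, fun t => ?_⟩
      rw [hequiv e (hEL he) w hw, ← hwP]
      have key : ∀ (u : D) (hu : u ≠ 1), u = v₀ →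
          (t ∈ Y ⊓ (syl hA hu : Subgroup G) ↔ t ∈ P₀) := by
        rintro u hu rfl; exact Iff.rfl
      rw [← key (e • v₀) (smul_ne hA hv₀ e) (hfix e he), hequiv e (hEL he) v₀ hv₀]
    · rintro v ⟨hv, hvP⟩
      have : s ∈ P₀ := ⟨hsY, invol_mem_syl hA hv₀ hs (hfix s hsE)⟩
      exact smul_of_mem_syl hA hv ((hvP s).1 this).2

end CfsgLib.RealGraph
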