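import Cfsg.Agent.RealGraph.TwoGen

/-!
The structure of groups with disconnected real class size graph.
-/

set_option autoImplicit false
set_option linter.unusedSectionVars false
set_option linter.style.haveILetI false

namespace CfsgLib.RealGraph

open Subgroup

universe u

variable {G : Type u} [Group G] [Finite G]

theorem unmixed_of {A B : Set ℕ} (hB : 2 ∉ B) (hpr : ∀ q ∈ B, q.Prime)
    (hcover : ∀ q : ℕ, q.Prime →
      (∃ x : G, IsConj x x⁻¹ ∧ q ∣ (centralizer ({x} : Set G)).index) → q ∈ A ∨ q ∈ B)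
    (hno : ∀ a ∈ A, ∀ b ∈ B, ∀ x : G, IsConj x x⁻¹ →
      ¬ (a ∣ (centralizer ({x} : Set G)).index ∧ b ∣ (centralizer ({x} : Set G)).index)) :
    Unmixed G B :=
  ⟨hB, hpr, fun x hx q hq hqx p hp hpx =>
    (hcover p hp ⟨x, hx, hpx⟩).resolve_left fun hpA => hno p hpA q hq x hx ⟨hpx, hqx⟩⟩

/-- If all real class sizes are odd, the graph is connected. -/
theorem exists_even_size {A B : Set ℕ} (hA : Unmixed G A) (hB : Unmixed G B) {w y : G}
    (hw : Good A w) (hy : Good B y) (hdisj : Disjoint A B) :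
    ∃ x : G, IsConj x x⁻¹ ∧ 2 ∣ (centralizer ({x} : Set G)).index := by
  haveI : Fact (Nat.Prime 2) := ⟨Nat.prime_two⟩
  by_contra hcon
  push Not at hcon
  obtain ⟨T⟩ := (inferInstance : Nonempty (Sylow 2 G))
  have hTn : (T : Subgroup G).Normal := two_closed_of_no_real (fun x hxo hxr => by
    by_contra hx1
    exact hcon x hxr (even_iff_two_dvd.1 (even_size_of_real_odd hxo hxr hx1))) T
  have hinT : ∀ t : G, orderOf t = 2 → t ∈ T := fun t ht => by
    obtain ⟨S, hS⟩ := (isPGroup_zpowers (j := 1) (by rw [ht, pow_one])).exists_le_sylow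
    haveI := Sylow.unique_of_normal T hTn
    exact (Subsingleton.elim S T) ▸ hS (mem_zpowers t)
  have hcT : ∀ {P : Set ℕ}, Unmixed G P → ∀ t : G, Good P t → ∀ a ∈ T, a * t = t * a := by
    intro P hP t ht a ha
    obtain ⟨S, hS, -⟩ := Good.exists_sylow hP ht
    haveI := Sylow.unique_of_normal T hTn
    exact mem_centralizer_singleton_iff.1 (hS ((Subsingleton.elim T S) ▸ ha))
  have hcommAll : ∀ {P : Set ℕ}, Unmixed G P → ∀ t : G, Good P t → ∀ g u : G, orderOf u = 2 →
      Commute u (g * t * g⁻¹) := by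
    intro P hP t ht g u hu
    have h := hcT hP t ht (g⁻¹ * u * g) (hinT _ (by
      rw [← orderOf_conjugate g, show g * (g⁻¹ * u * g) * g⁻¹ = u by group, hu]))
    calc u * (g * t * g⁻¹) = g * ((g⁻¹ * u * g) * t) * g⁻¹ := by group
      _ = g * t * g⁻¹ * u := by rw [h]; group
  have hw2 := Good.invol hA hw
  have hy2 := Good.invol hB hy
  set m := (centralizer ({w} : Set G)).index with hm
  set n := (centralizer ({y} : Set G)).index with hn
  have hmA : ∀ p : ℕ, p.Prime → p ∣ m → p ∈ A := fun p hp h => by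
    obtain ⟨q, hq, hqw⟩ := hw.2
    exact hA.unmixed w hw.1 q hq hqw p hp h
  have hnB : ∀ p : ℕ, p.Prime → p ∣ n → p ∈ B := fun p hp h => by
    obtain ⟨q, hq, hqy⟩ := hy.2
    exact hB.unmixed y hy.1 q hq hqy p hp h
  have hmn : Nat.Coprime m n := Nat.coprime_of_dvd fun p hp h1 h2 =>
    Set.disjoint_left.1 hdisj (hmA p hp h1) (hnB p hp h2)
  have hwy : w ≠ y := fun e => by
    obtain ⟨q, hq, hqy⟩ := hy.2
    rw [hm, e, ← hn, Nat.coprime_self] at hmn
    rw [← hn, hmn, Nat.dvd_one] at hqy
    exact (hB.prime q hq).ne_one hqy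
  have hcwy : Commute w y := by simpa using hcommAll hB y hy 1 w hw2
  have hv2 : orderOf (w * y) = 2 := invol_of_mul_self (by
    calc w * y * (w * y) = w * (y * w) * y := by group
      _ = w * w * (y * y) := by rw [← hcwy.eq]; group
      _ = 1 := by rw [mul_self_of_invol hw2, mul_self_of_invol hy2, one_mul])
    (fun h => hwy ((eq_inv_of_mul_eq_one_left h).trans (inv_of_invol hy2)))
  have hvr : IsConj (w * y) (w * y)⁻¹ := by rw [inv_of_invol hv2]
  set k := (centralizer ({w * y} : Set G)).index with hk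
  have hkmn : k ∣ m * n := by
    rw [hm, hn, ← index_inf_of_coprime hmn]
    refine index_dvd_of_le fun c ⟨h1, h2⟩ => mem_centralizer_singleton_iff.2 ?_
    exact (Commute.mul_right (mem_centralizer_singleton_iff.1 h1)
      (mem_centralizer_singleton_iff.1 h2)).eq
  have key : ∀ {P : Set ℕ}, Unmixed G P → ∀ {w y : G}, Good P w → orderOf y = 2 →
      Odd (centralizer ({y} : Set G)).index →
      (centralizer ({w} : Set G)).index.Coprime (centralizer ({y} : Set G)).index →
      (centralizer ({y * w} : Set G)).index ≤ (centralizer ({y} : Set G)).index → False := by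
    intro P hP w y hw hy2 hodd hc hle
    obtain ⟨g, hg⟩ : ∃ g, g * w * g⁻¹ ≠ w := by
      by_contra h
      push Not at h
      obtain ⟨q, hq, hqw⟩ := hw.2
      rw [show centralizer ({w} : Set G) = ⊤ from eq_top_iff.2 fun c _ =>
        mem_centralizer_singleton_iff.2 (mul_inv_eq_iff_eq_mul.1 (h c)), index_top,
        Nat.dvd_one] at hqw
      exact (hP.prime q hq).ne_one hqw
    have hw2 := Good.invol hP hw
    have hg2 : orderOf (g * w * g⁻¹) = 2 := by rw [orderOf_conjugate, hw2]
    refine (Nat.not_even_iff_odd.2 hodd) ?_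
    rw [← ncard_isConj]
    refine even_of_translate (t := w * (g * w * g⁻¹)⁻¹) ?_ ?_ fun z hz => ?_
    · rw [inv_of_invol hg2]
      calc w * (g * w * g⁻¹) * (w * (g * w * g⁻¹))
          = w * ((g * w * g⁻¹) * w) * (g * w * g⁻¹) := by group
        _ = w * w * ((g * w * g⁻¹) * (g * w * g⁻¹)) := by
          rw [← (hcommAll hP w hw g w hw2).eq]; group
        _ = 1 := by rw [mul_self_of_invol hw2, mul_self_of_invol hg2, one_mul]
    · rw [ne_eq, mul_inv_eq_one]; exact fun h => hg h.symm
    · rw [← mul_assoc]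
      exact isConj_translate hc.symm hle hz (IsConj.refl w) (isConj_iff.2 ⟨g, rfl⟩)
  by_cases hv : Good B (w * y)
  · have hkm : Nat.Coprime k m := Nat.coprime_of_dvd fun p hp h1 h2 => by
      obtain ⟨hvr, q, hq, hqv⟩ := hv
      exact Set.disjoint_left.1 hdisj (hmA p hp h2) (hB.unmixed _ hvr q hq hqv p hp h1)
    refine key hA hw hy2 (Good.odd_index hB hy) hmn ?_
    rw [← hcwy.eq]
    exact Nat.le_of_dvd (Nat.pos_of_ne_zero index_ne_zero_of_finite) (hkm.dvd_of_dvd_mul_left hkmn)
  · have hkn : Nat.Coprime k n := Nat.coprime_of_dvd fun p hp h1 h2 =>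
      hv ⟨hvr, p, hnB p hp h2, h1⟩
    refine key hB hy hw2 (Good.odd_index hA hw) hmn.symm ?_
    exact Nat.le_of_dvd (Nat.pos_of_ne_zero index_ne_zero_of_finite) (hkn.dvd_of_dvd_mul_right hkmn)

/-- The subgroup generated by the 2-elements. -/
theorem structure_twoGen {B : Set ℕ} (hB : Unmixed G B) {y : G} (hy : Good B y)
    (hsol : Group.IsSolvable G) (hnn : ¬ ∀ P : Sylow 2 G, (P : Subgroup G).Normal)
    (K : Subgroup G) (hK : K = closure {g : G | ∃ k : ℕ, orderOf g = 2 ^ k}) :
    (∃ z : K, IsConj z z⁻¹ ∧ Even (centralizer ({z} : Set K)).index) ∧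
    (∃ z : K, IsConj z z⁻¹ ∧ Odd (centralizer ({z} : Set K)).index ∧
      (centralizer ({z} : Set K)).index ≠ 1) ∧
    ∀ z : K, IsConj z z⁻¹ → Odd (centralizer ({z} : Set K)).index ∨
      ∃ j : ℕ, (centralizer ({z} : Set K)).index = 2 ^ j := by
  haveI : Fact (Nat.Prime 2) := ⟨Nat.prime_two⟩
  haveI hKn : K.Normal := ⟨fun a ha g => by
    rw [hK] at ha ⊢
    refine (closure_le ((closure {c : G | ∃ k : ℕ, orderOf c = 2 ^ k}).comap
      (MulAut.conj g).toMonoidHom)).2 ?_ ha
    rintro b ⟨k, hk⟩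
    exact subset_closure ⟨k, by
      show orderOf (g * b * g⁻¹) = _
      rw [orderOf_conjugate, hk]⟩⟩
  have hsyl : ∀ S : Sylow 2 G, (S : Subgroup G) ≤ K := fun S s hs => by
    rw [hK]; exact subset_closure (pow_eq_one_of_isPGroup S.2 hs)
  obtain ⟨T, hT, hTn⟩ := Good.exists_sylow hB hy
  have hKodd : Odd K.index := by
    refine Odd.of_dvd_nat ?_ (index_dvd_of_le (hsyl T))
    rw [← Nat.not_even_iff_odd, even_iff_two_dvd]
    exact T.not_dvd_index
  have hreal : ∀ z : G, IsConj z z⁻¹ → ∃ h : z ∈ K, IsConj (⟨z, h⟩ : K) (⟨z, h⟩ : K)⁻¹ :=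
    fun z hz => (Cfsg.Agent.S3863.result z hz).2.2 K hKodd
  obtain ⟨x, hxo, hxr, hx1⟩ : ∃ x : G, Odd (orderOf x) ∧ IsConj x x⁻¹ ∧ x ≠ 1 := by
    by_contra h
    push Not at h
    exact hnn fun P => two_closed_of_no_real (fun x hxo hxr => h x hxo hxr) P
  obtain ⟨hxK, hxKr⟩ := hreal x hxr
  obtain ⟨hyK, hyKr⟩ := hreal y hy.1
  refine ⟨⟨_, hxKr, even_size_of_real_odd (by rw [← Subgroup.orderOf_coe]; exact hxo) hxKr
    fun h => hx1 (congrArg Subtype.val h)⟩, ⟨_, hyKr,
    (Good.odd_index hB hy).of_dvd_nat (index_centralizer_dvd K ⟨y, hyK⟩), fun h1 => hx1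
      (Good.no_real hB hy hxo hxr ?_)⟩, fun z hz => ?_⟩
  · rw [index_eq_one] at h1
    exact congrArg Subtype.val
      (mem_centralizer_singleton_iff.1 (h1 ▸ mem_top (⟨x, hxK⟩ : K)) :
        (⟨x, hxK⟩ : K) * ⟨y, hyK⟩ = ⟨y, hyK⟩ * ⟨x, hxK⟩)
  · rcases Nat.even_or_odd (centralizer ({z} : Set K)).index with hev | hod
    swap
    · exact Or.inl hod
    right
    have hzG : IsConj (z : G) (z : G)⁻¹ := by simpa using K.subtype.map_isConj hz
    have hdvd := index_centralizer_dvd K z
    refine ⟨_, Nat.eq_prime_pow_of_unique_prime_dvd index_ne_zero_of_finite fun {r} hr hrz => ?_⟩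
    by_contra hr2
    haveI := Fact.mk hr
    have hrB : r ∉ B := fun hrB => hB.not_two (hB.unmixed _ hzG r hrB (hrz.trans hdvd) 2
      Nat.prime_two ((even_iff_two_dvd.1 hev).trans hdvd))
    obtain ⟨R⟩ := (inferInstance : Nonempty (Sylow r (centralizer ({y} : Set G))))
    have hnd : ¬ r ∣ ((R : Subgroup (centralizer ({y} : Set G))).map
        (centralizer ({y} : Set G)).subtype).index := by
      rw [index_map_subtype]
      refine hr.not_dvd_mul R.not_dvd_index fun h => hrB ?_
      obtain ⟨q, hq, hqy⟩ := hy.2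
      exact hB.unmixed y hy.1 q hq hqy r hr h
    set R' := (R.2.map (centralizer ({y} : Set G)).subtype).toSylow hnd with hR'
    have hR'T : (R' : Subgroup G) ≤ normalizer ((T : Subgroup G) : Set G) :=
      (map_subtype_le _).trans hTn
    -- Sylow subgroups of `K`
    have hidx : ∀ {p : ℕ} [Fact p.Prime] (S : Sylow p G),
        ¬ p ∣ (((S : Subgroup G) ⊓ K).subgroupOf K).index := by
      intro p _ S hd
      rw [inf_subgroupOf_right] at hd
      have h1 := Solvable.card_sup_mul_card_inf (A := (S : Subgroup G)) (K := K)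
        (by rw [normalizer_eq_top]; exact le_top)
      have h2 : Nat.card ↥((S : Subgroup G) ⊓ K) * ((S : Subgroup G).subgroupOf K).index =
          Nat.card K := by
        rw [← ((S : Subgroup G).subgroupOf K).card_mul_index]
        congr 1
        rw [← card_map_of_injective K.subtype_injective (K := (S : Subgroup G).subgroupOf K),
          subgroupOf_map_subtype]
      have h3 : Nat.card S * ((S : Subgroup G).subgroupOf K).index ∣ Nat.card G := by
        have : Nat.card S * ((S : Subgroup G).subgroupOf K).index =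
            Nat.card ↥((S : Subgroup G) ⊔ K) := by
          apply Nat.eq_of_mul_eq_mul_right (Nat.card_pos (α := ↥((S : Subgroup G) ⊓ K)))
          rw [h1, mul_assoc, mul_comm ((S : Subgroup G).subgroupOf K).index, h2]
        rw [this]
        exact card_subgroup_dvd_card _
      rw [← (S : Subgroup G).card_mul_index] at h3
      exact S.not_dvd_index (hd.trans (Nat.dvd_of_mul_dvd_mul_left Nat.card_pos h3))
    set RK : Sylow r K := ((R'.2.to_le inf_le_left).comap_of_injective K.subtype
      K.subtype_injective : IsPGroup r (((R' : Subgroup G) ⊓ K).subgroupOf K)).toSylow (hidx R')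
      with hRK
    set TK : Sylow 2 K := ((T.2.to_le inf_le_left).comap_of_injective K.subtype
      K.subtype_injective : IsPGroup 2 (((T : Subgroup G) ⊓ K).subgroupOf K)).toSylow (hidx T)
      with hTK
    haveI := hsol
    have hgen : closure {g : K | ∃ k : ℕ, orderOf g = 2 ^ k} = ⊤ := by
      apply Subgroup.map_injective K.subtype_injective
      rw [MonoidHom.map_closure, ← MonoidHom.range_eq_map, range_subtype]
      conv_rhs => rw [hK]
      congr 1
      ext g
      constructor
      · rintro ⟨g', ⟨k, hk⟩, rfl⟩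
        exact ⟨k, by rw [Subgroup.coe_subtype, Subgroup.orderOf_coe, hk]⟩
      · rintro ⟨k, hk⟩
        exact ⟨⟨g, by rw [hK]; exact subset_closure ⟨k, hk⟩⟩,
          ⟨k, by rw [← Subgroup.orderOf_coe]; exact hk⟩, rfl⟩
    refine not_dvd_of_normalizes hr2 _ K rfl inferInstance hgen RK TK ?_
      (hrz.trans (index_dvd_card _))
    intro a ha
    change a ∈ ((R' : Subgroup G) ⊓ K).subgroupOf K at ha
    show a ∈ normalizer ((((T : Subgroup G) ⊓ K).subgroupOf K : Subgroup K) : Set K)
    rw [mem_subgroupOf] at ha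
    rw [mem_normalizer_iff]
    intro b
    rw [mem_subgroupOf, mem_subgroupOf, mem_inf, mem_inf]
    simp only [Subgroup.coe_mul, InvMemClass.coe_inv]
    exact and_congr (mem_normalizer_iff.1 (hR'T ha.1) b)
      ⟨fun _ => mul_mem (mul_mem a.2 b.2) (inv_mem a.2), fun _ => b.2⟩

end CfsgLib.RealGraph
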