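import Cfsg.Agent.OddEnd.FourteenFinal
import Cfsg.Agent.Invol.BaerSuzuki
import Cfsg.Agent.Solvable.Basics
import Cfsg.Agent.S3863
import Mathlib.GroupTheory.SpecificGroups.KleinFour

/-!
Small tools for the groups with disconnected real class size graph.
-/

set_option autoImplicit false
set_option linter.unusedSectionVars false
set_option linter.style.haveILetI false

namespace CfsgLib.RealGraph

open Subgroup

universe u

variable {G : Type u} [Group G] [Finite G]

/-- Square roots of inverted elements of odd order. -/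
theorem exists_half {x t : G} (hx : Odd (orderOf x)) (h : t * x * t⁻¹ = x⁻¹) :
    ∃ r ∈ zpowers x, r * r = x ∧ t * r * t⁻¹ = r⁻¹ := by
  obtain ⟨l, hl⟩ := hx
  refine ⟨x ^ (l + 1), pow_mem (mem_zpowers x) _, ?_, ?_⟩
  · rw [← pow_add, show l + 1 + (l + 1) = orderOf x + 1 by omega, pow_succ, pow_orderOf_eq_one,
      one_mul]
  · rw [← conj_pow, h, inv_pow]

theorem orderOf_conjugate (g x : G) : orderOf (g * x * g⁻¹) = orderOf x :=
  MulEquiv.orderOf_eq (MulAut.conj g) x

theorem eq_one_of_eq_inv_odd {x : G} (hx : Odd (orderOf x)) (h : x = x⁻¹) : x = 1 := by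
  have h2 : x ^ 2 = 1 := by rw [pow_two]; nth_rw 2 [h]; rw [mul_inv_cancel]
  exact orderOf_eq_one_iff.1 (Nat.eq_one_of_dvd_coprimes
    ((Nat.coprime_two_left).2 hx) (orderOf_dvd_of_pow_eq_one h2) dvd_rfl)

/-- An element that both inverts and centralises an element of odd order. -/
theorem eq_one_of_invert_commute {x t : G} (hx : Odd (orderOf x)) (h : t * x * t⁻¹ = x⁻¹)
    (hc : Commute t x) : x = 1 :=
  eq_one_of_eq_inv_odd hx (by rw [← h, hc.eq, mul_inv_cancel_right])

theorem odd_orderOf_of_mem {O : Subgroup G} (hO : Odd (Nat.card O)) {x : G} (hx : x ∈ O) :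
    Odd (orderOf x) :=
  hO.of_dvd_nat (Subgroup.orderOf_dvd_natCard O hx)

theorem inv_of_invol {t : G} (ht : orderOf t = 2) : t⁻¹ = t :=
  inv_eq_of_mul_eq_one_right (by
    have := pow_orderOf_eq_one t
    rwa [ht, pow_two] at this)

theorem mul_self_of_invol {t : G} (ht : orderOf t = 2) : t * t = 1 := by
  have := pow_orderOf_eq_one t
  rwa [ht, pow_two] at this

theorem ne_one_of_invol {t : G} (ht : orderOf t = 2) : t ≠ 1 := by
  rintro rfl
  simp at ht

theorem invol_of_mul_self {t : G} (h : t * t = 1) (h1 : t ≠ 1) : orderOf t = 2 :=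
  orderOf_eq_prime (by rw [pow_two, h]) h1

/-- A product of an involution and an element it inverts. -/
theorem invol_mul_inverted {t x : G} (ht : orderOf t = 2) (hx : Odd (orderOf x))
    (h : t * x * t⁻¹ = x⁻¹) : orderOf (t * x) = 2 := by
  apply invol_of_mul_self
  · calc t * x * (t * x) = t * x * t⁻¹ * x := by rw [inv_of_invol ht]; group
      _ = 1 := by rw [h, inv_mul_cancel]
  · intro he
    have : x = t := by
      rw [← inv_of_invol ht]
      exact eq_inv_of_mul_eq_one_right he
    rw [this, ht] at hx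
    exact absurd hx (by decide)

/-- The product of two involutions is inverted by both. -/
theorem invert_mul_invol {s t : G} (hs : orderOf s = 2) (ht : orderOf t = 2) :
    s * (s * t) * s⁻¹ = (s * t)⁻¹ ∧ t * (s * t) * t⁻¹ = (s * t)⁻¹ := by
  have h1 := mul_self_of_invol hs
  have h2 := mul_self_of_invol ht
  rw [mul_inv_rev, inv_of_invol hs, inv_of_invol ht]
  constructor
  · rw [← mul_assoc s s t, h1, one_mul]
  · rw [mul_assoc t (s * t) t, mul_assoc s t t, h2, mul_one]

/-- If `t` is an involution and `t' = c t` with `c` in a subgroup of odd order, both involutions,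
then they are conjugate inside that subgroup. -/
theorem conj_of_coset {t c : G} {O : Subgroup G} (hO : Odd (Nat.card O)) (ht : orderOf t = 2)
    (hc : c ∈ O) (hct : orderOf (c * t) = 2) : ∃ d ∈ O, c * t = d * t * d⁻¹ := by
  have hinv : t * c * t⁻¹ = c⁻¹ := by
    refine eq_inv_of_mul_eq_one_right ?_
    calc c * (t * c * t⁻¹) = c * t * (c * t) := by rw [inv_of_invol ht]; group
      _ = 1 := mul_self_of_invol hct
  obtain ⟨r, hr, hr2, hrt⟩ := exists_half (odd_orderOf_of_mem hO hc) hinv
  refine ⟨r, (zpowers_le.2 hc) hr, ?_⟩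
  have hrt' : r * t = t * r⁻¹ := by
    calc r * t = (t * r * t⁻¹)⁻¹ * t := by rw [hrt, inv_inv]
      _ = t * r⁻¹ := by group
  calc c * t = r * (r * t) := by rw [← mul_assoc, hr2]
    _ = r * (t * r⁻¹) := by rw [hrt']
    _ = r * t * r⁻¹ := (mul_assoc _ _ _).symm

/-- The image of the centralizer of an involution, for a kernel of odd order. -/
theorem map_centralizer_invol {H : Type u} [Group H] (f : G →* H) (hf : Function.Surjective f)
    (hker : Odd (Nat.card f.ker)) {t : G} (ht : orderOf t = 2) :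
    (centralizer ({t} : Set G)).map f = centralizer ({f t} : Set H) := by
  refine le_antisymm ?_ fun h hh => ?_
  · rintro _ ⟨g, hg, rfl⟩
    rw [mem_centralizer_singleton_iff] at *
    rw [← map_mul, ← map_mul, mem_centralizer_singleton_iff.1 hg]
  · obtain ⟨g, rfl⟩ := hf h
    rw [mem_centralizer_singleton_iff] at hh
    have hc : g * t * g⁻¹ * t⁻¹ ∈ f.ker := by
      rw [MonoidHom.mem_ker, map_mul, map_mul, map_mul, hh, map_inv, map_inv]
      group
    obtain ⟨d, hd, hde⟩ := conj_of_coset hker ht hc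
      (by rw [inv_mul_cancel_right, orderOf_conjugate, ht])
    rw [inv_mul_cancel_right] at hde
    refine ⟨d⁻¹ * g, mem_centralizer_singleton_iff.2 ?_, ?_⟩
    · calc d⁻¹ * g * t = d⁻¹ * (g * t * g⁻¹) * g := by group
        _ = t * (d⁻¹ * g) := by rw [hde]; group
    · rw [map_mul, map_inv, MonoidHom.mem_ker.1 hd, inv_one, one_mul]

/-- The odd part of an element whose order is not a power of two. -/
theorem exists_odd_part {h : G} (h2 : ∀ k : ℕ, orderOf h ≠ 2 ^ k) :
    ∃ a : ℕ, Odd (orderOf (h ^ (2 ^ a))) ∧ h ^ (2 ^ a) ≠ 1 ∧ (Even (orderOf h) → 1 ≤ a) := by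
  obtain ⟨a, m, hm, ham⟩ :=
    Nat.exists_eq_pow_mul_and_not_dvd (orderOf_pos h).ne' 2 (by decide)
  have hord : orderOf (h ^ (2 ^ a)) = m := by
    rw [orderOf_pow' h (pow_ne_zero a two_ne_zero), ham, Nat.gcd_eq_right (dvd_mul_right _ m),
      Nat.mul_div_cancel_left _ (by positivity)]
  refine ⟨a, ?_, ?_, fun he => ?_⟩
  · rw [hord, ← Nat.not_even_iff_odd, even_iff_two_dvd]
    exact hm
  · intro h1
    rw [h1, orderOf_one] at hord
    exact h2 a (by rw [ham, ← hord, mul_one])
  · rcases Nat.eq_zero_or_pos a with rfl | ha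
    · rw [ham, pow_zero, one_mul, even_iff_two_dvd] at he
      exact absurd he hm
    · exact ha

theorem orderOf_two_pow_of_pow_eq_one {h : G} {k : ℕ} (hk : h ^ (2 ^ k) = 1) :
    ∃ j : ℕ, orderOf h = 2 ^ j := by
  obtain ⟨j, -, hj⟩ := (Nat.dvd_prime_pow Nat.prime_two).1 (orderOf_dvd_of_pow_eq_one hk)
  exact ⟨j, hj⟩

theorem pow_eq_one_of_isPGroup {P : Subgroup G} (hP : IsPGroup 2 P) {h : G} (hh : h ∈ P) :
    ∃ j : ℕ, orderOf h = 2 ^ j := by
  obtain ⟨k, hk⟩ := hP ⟨h, hh⟩
  exact orderOf_two_pow_of_pow_eq_one (k := k) (by simpa using congrArg Subtype.val hk)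

theorem isPGroup_zpowers {h : G} {j : ℕ} (hj : orderOf h = 2 ^ j) : IsPGroup 2 (zpowers h) :=
  IsPGroup.of_card (n := j) (by rw [Nat.card_zpowers, hj])

/-- An involution and an inverted 2-element generate a 2-group. -/
theorem isPGroup_dihedral {t h : G} {j : ℕ} (ht : orderOf t = 2) (hj : orderOf h = 2 ^ j)
    (hinv : t * h * t⁻¹ = h⁻¹) : IsPGroup 2 (zpowers t ⊔ zpowers h : Subgroup G) := by
  haveI : Fact (Nat.Prime 2) := ⟨Nat.prime_two⟩
  refine IsPGroup.to_sup_of_normal_right' (isPGroup_zpowers (j := 1) (by rw [ht, pow_one]))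
    (isPGroup_zpowers hj) (zpowers_le.2 ?_)
  rw [mem_normalizer_iff_map_conj_eq, MonoidHom.map_zpowers]
  show zpowers (t * h * t⁻¹) = zpowers h
  rw [hinv, zpowers_inv]

theorem solvable_of_odd {K : Type u} [Group K] [Finite K] (h : Odd (Nat.card K)) :
    Group.IsSolvable K :=
  CfsgLib.OddEnd.odd_solvable K h

theorem solvable_of_ext {K : Type u} [Group K] (N : Subgroup K) [N.Normal]
    (hN : Group.IsSolvable N) (h : Group.IsSolvable (K ⧸ N)) : Group.IsSolvable K :=
  Group.isSolvable_of_ker_le_range N.subtype (QuotientGroup.mk' N)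
    (by rw [QuotientGroup.ker_mk', Subgroup.range_subtype])

theorem solvable_of_two_closed {K : Type u} [Group K] [Finite K]
    (h : ∀ P : Sylow 2 K, (P : Subgroup K).Normal) : Group.IsSolvable K := by
  haveI : Fact (Nat.Prime 2) := ⟨Nat.prime_two⟩
  obtain ⟨S⟩ := (inferInstance : Nonempty (Sylow 2 K))
  haveI : Group.IsNilpotent ↥(S : Subgroup K) := S.2.isNilpotent
  haveI := h S
  refine solvable_of_ext (S : Subgroup K) inferInstance ?_
  exact solvable_of_odd (Nat.odd_iff.2 (Nat.two_dvd_ne_zero.1 fun hd =>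
    S.not_dvd_index (by rwa [Subgroup.index_eq_card])))

end CfsgLib.RealGraph
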