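import Cfsg.Agent.RealGraph.Main
import Mathlib.GroupTheory.SchurZassenhaus

/-!
Solvable groups generated by 2-elements, and class sizes in normal subgroups.
-/

set_option autoImplicit false
set_option linter.unusedSectionVars false
set_option linter.style.haveILetI false

namespace CfsgLib.RealGraph

open Subgroup
open scoped Pointwise

universe u

/-- A class size in a normal subgroup divides the class size in the group. -/
theorem index_centralizer_dvd {G : Type u} [Group G] [Finite G] (K : Subgroup G) [K.Normal]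
    (z : K) :
    (centralizer ({z} : Set K)).index ∣ (centralizer ({(z : G)} : Set G)).index := by
  set C := centralizer ({(z : G)} : Set G) with hC
  have he : centralizer ({z} : Set K) = C.subgroupOf K := by
    ext k
    rw [mem_subgroupOf, mem_centralizer_singleton_iff, mem_centralizer_singleton_iff]
    exact ⟨fun h => congrArg Subtype.val h, fun h => Subtype.ext h⟩
  rw [he]
  have h1 := Solvable.card_sup_mul_card_inf (A := C) (K := K) (by rw [normalizer_eq_top]; exact le_top)
  have h2 : Nat.card ↥(C ⊓ K) * (C.subgroupOf K).index = Nat.card K := by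
    rw [← (C.subgroupOf K).card_mul_index]
    congr 1
    rw [← card_map_of_injective K.subtype_injective (K := C.subgroupOf K),
      subgroupOf_map_subtype]
  have h3 : Nat.card C * (C.subgroupOf K).index = Nat.card ↥(C ⊔ K) := by
    apply Nat.eq_of_mul_eq_mul_right (Nat.card_pos (α := ↥(C ⊓ K)))
    rw [h1, mul_assoc, mul_comm (C.subgroupOf K).index, h2]
  refine Nat.dvd_of_mul_dvd_mul_left (Nat.card_pos (α := C)) ?_
  rw [h3, C.card_mul_index]
  exact card_subgroup_dvd_card _

/-- In a solvable group generated by 2-elements, an odd prime whose Sylow subgroup normalises a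
Sylow 2-subgroup does not divide the order. -/
theorem not_dvd_of_normalizes {r : ℕ} [Fact r.Prime] (hr2 : r ≠ 2) (n : ℕ) :
    ∀ (X : Type u) [Group X] [Finite X], Nat.card X = n → Group.IsSolvable X →
      closure {g : X | ∃ k : ℕ, orderOf g = 2 ^ k} = ⊤ →
      ∀ (R : Sylow r X) (T : Sylow 2 X),
        (R : Subgroup X) ≤ normalizer ((T : Subgroup X) : Set X) → ¬ r ∣ Nat.card X := by
  haveI : Fact (Nat.Prime 2) := ⟨Nat.prime_two⟩
  induction n using Nat.strong_induction_on with
  | _ n ih =>
    intro X _ _ hn hX hgen R T hRT hdvd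
    subst hn
    haveI : Nontrivial X := Finite.one_lt_card_iff_nontrivial.1
      (lt_of_lt_of_le (Fact.out : r.Prime).one_lt (Nat.le_of_dvd Nat.card_pos hdvd))
    haveI := hX
    obtain ⟨N, hN, hN1, -, -, -, p, hp, -, hNp⟩ :=
      CfsgLib.Solvable.exists_normal_elementary_le (G := X) (N := ⊤) top_ne_bot inferInstance
    haveI := hN
    set π := QuotientGroup.mk' N with hπ
    have hπs : Function.Surjective π := QuotientGroup.mk'_surjective N
    have hlt : Nat.card (X ⧸ N) < Nat.card X := by
      rw [card_eq_card_quotient_mul_card_subgroup N]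
      exact lt_mul_of_one_lt_right Nat.card_pos
        (Finite.one_lt_card_iff_nontrivial.2 ((Subgroup.nontrivial_iff_ne_bot N).2 hN1))
    have hgen' : closure {g : X ⧸ N | ∃ k : ℕ, orderOf g = 2 ^ k} = ⊤ := by
      rw [eq_top_iff, ← map_top_of_surjective π hπs, ← hgen, MonoidHom.map_closure]
      refine closure_mono ?_
      rintro _ ⟨g, ⟨k, hk⟩, rfl⟩
      exact orderOf_two_pow_of_pow_eq_one (k := k) (by rw [← map_pow, ← hk, pow_orderOf_eq_one, map_one])
    have hq := ih _ hlt (X ⧸ N) rfl inferInstance hgen' (R.mapSurjective hπs) (T.mapSurjective hπs)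
      (by
        rw [Sylow.coe_mapSurjective, Sylow.coe_mapSurjective]
        exact (map_mono hRT).trans (le_normalizer_map π))
    have hrN : r ∣ Nat.card N := by
      rw [card_eq_card_quotient_mul_card_subgroup N] at hdvd
      exact ((Fact.out : r.Prime).dvd_mul.1 hdvd).resolve_left hq
    have hrp : r = p := by
      haveI := Fact.mk hp
      obtain ⟨k, hk⟩ := IsPGroup.iff_card.1 hNp
      exact (Nat.prime_dvd_prime_iff_eq Fact.out hp).1
        ((Fact.out : r.Prime).dvd_of_dvd_pow (hk ▸ hrN))
    subst hrp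
    have hRN : (R : Subgroup X) = N := by
      refine le_antisymm (fun x hx => ?_) (le_sup_left.trans (R.3 (hNp.to_sup_of_normal_left R.2)
        le_sup_right).le)
      refine (QuotientGroup.eq_one_iff x).1 ?_
      obtain ⟨k, hk⟩ := R.2 ⟨x, hx⟩
      have hd : orderOf (π x) ∣ r ^ k := orderOf_dvd_of_pow_eq_one (by
        rw [← map_pow, show x ^ r ^ k = 1 by simpa using congrArg Subtype.val hk, map_one])
      exact orderOf_eq_one_iff.1 (Nat.eq_one_of_dvd_coprimes
        (((Fact.out : r.Prime).coprime_iff_not_dvd.2 hq).pow_left k) hd (orderOf_dvd_natCard _))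
    have hRTi : ∀ a ∈ N, a ∈ T → a = 1 := by
      intro a ha haT
      obtain ⟨i, hi⟩ := pow_eq_one_of_isPGroup T.2 haT
      obtain ⟨k, hk⟩ := IsPGroup.iff_card.1 hNp
      exact orderOf_eq_one_iff.1 (Nat.eq_one_of_dvd_coprimes
        (((Nat.coprime_primes Nat.prime_two Fact.out).2 (Ne.symm hr2)).pow i k) (dvd_of_eq hi)
        (hk ▸ Subgroup.orderOf_dvd_natCard N ha))
    have hTc : ∀ t ∈ T, ∀ a ∈ N, t * a = a * t := by
      intro t ht a ha
      have h1 : t * a * t⁻¹ * a⁻¹ = 1 := by
        refine hRTi _ (mul_mem (hN.conj_mem a ha t) (inv_mem ha)) ?_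
        rw [show t * a * t⁻¹ * a⁻¹ = t * (a * t⁻¹ * a⁻¹) by group]
        exact mul_mem ht ((mem_normalizer_iff.1 (hRT (hRN.symm ▸ ha)) t⁻¹).1 (inv_mem ht))
      calc t * a = (t * a * t⁻¹ * a⁻¹) * (a * t) := by group
        _ = a * t := by rw [h1, one_mul]
    have hgc : ∀ g : X, (∃ k : ℕ, orderOf g = 2 ^ k) → ∀ a ∈ N, g * a = a * g := by
      rintro g ⟨k, hk⟩ a ha
      obtain ⟨S, hS⟩ := (isPGroup_zpowers hk).exists_le_sylow
      obtain ⟨c, hc⟩ := MulAction.exists_smul_eq X S T
      have hg : c * g * c⁻¹ ∈ T := by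
        rw [← hc]
        show c * g * c⁻¹ ∈ ((c • S : Sylow 2 X) : Subgroup X)
        rw [Sylow.coe_subgroup_smul]
        exact Subgroup.smul_mem_pointwise_smul g (MulAut.conj c) _ (hS (mem_zpowers g))
      have h := hTc _ hg _ (hN.conj_mem a ha c)
      calc g * a = c⁻¹ * ((c * g * c⁻¹) * (c * a * c⁻¹)) * c := by group
        _ = a * g := by rw [h]; group
    have hcop : Nat.Coprime (Nat.card N) N.index := by
      obtain ⟨k, hk⟩ := IsPGroup.iff_card.1 hNp
      rw [hk, index_eq_card]
      exact ((Fact.out : r.Prime).coprime_iff_not_dvd.2 hq).pow_left k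
    obtain ⟨M, hM⟩ := exists_right_complement'_of_coprime hcop
    have hle : closure {g : X | ∃ k : ℕ, orderOf g = 2 ^ k} ≤ M := by
      rw [closure_le]
      rintro g ⟨k, hk⟩
      obtain ⟨⟨⟨a, ha⟩, ⟨m, hm⟩⟩, e, -⟩ := hM.existsUnique g
      have e' : a * m = g := e
      have hgN := hgc g ⟨k, hk⟩ a ha
      have hcm : Commute a m := by
        have h2 : Commute a (a⁻¹ * g) := ((Commute.refl a).inv_right).mul_right hgN.symm
        rwa [← e', inv_mul_cancel_left] at h2
      have hpow : a ^ 2 ^ k = 1 := by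
        have h1 : (a * m) ^ 2 ^ k = 1 := by rw [e', ← hk, pow_orderOf_eq_one]
        rw [hcm.mul_pow] at h1
        have hmem : a ^ 2 ^ k ∈ N ⊓ M :=
          ⟨N.pow_mem ha _, by rw [eq_inv_of_mul_eq_one_left h1]; exact M.inv_mem (M.pow_mem hm _)⟩
        rwa [hM.disjoint.eq_bot, mem_bot] at hmem
      obtain ⟨i, hi⟩ := IsPGroup.iff_card.1 hNp
      have ha1 : a = 1 := orderOf_eq_one_iff.1 (Nat.eq_one_of_dvd_coprimes
        (((Nat.coprime_primes Nat.prime_two Fact.out).2 (Ne.symm hr2)).pow k i)
        (orderOf_dvd_of_pow_eq_one hpow) (hi ▸ Subgroup.orderOf_dvd_natCard N ha))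
      rw [← e', ha1, one_mul]
      exact hm
    rw [hgen, top_le_iff] at hle
    subst hle
    exact hN1 (by simpa using hM.disjoint.eq_bot)

end CfsgLib.RealGraph
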